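import Cfsg.Agent.Lib.CharsMore.Gow.Split
import Cfsg.Agent.Lib.CharsMore.KGVAbelian

/-!
# The real vector criterion
-/

set_option autoImplicit false
set_option linter.style.haveILetI false
set_option linter.unusedSectionVars false

namespace CfsgLib.CharsMore.Gow

open Cfsg CfsgLib
open scoped ComplexConjugate

universe u

theorem Kc_mono {M M' : ℕ} (h : M ∣ M') : Kc M ≤ Kc M' :=
  IntermediateField.adjoin.mono ℚ _ _ fun z (hz : z ^ M = 1) => by
    obtain ⟨c, rfl⟩ := h
    show z ^ (M * c) = 1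
    rw [pow_mul, hz, one_pow]

section Column

variable {X : Type u} [Group X] [Finite X]

theorem sum_irr_mul_conj [Fintype (IrrCharacter X)] (g g' : X) :
    ∑ χ : IrrCharacter X, (χ : X → ℂ) g * conj ((χ : X → ℂ) g') =
      (Nat.card {x : X // x * g * x⁻¹ = g'} : ℂ) := by
  classical
  rw [Chars.second_orthogonality]
  split_ifs with h
  · obtain ⟨y, hy⟩ := isConj_iff.1 h.symm
    refine congrArg Nat.cast (Nat.card_congr (Equiv.subtypeEquiv (Equiv.mulLeft y) fun x => ?_))
    rw [Subgroup.mem_centralizer_singleton_iff, Equiv.coe_mulLeft,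
      show y * x * g * (y * x)⁻¹ = y * (x * g * x⁻¹) * y⁻¹ by group, ← hy, mul_left_inj,
      mul_right_inj, mul_inv_eq_iff_eq_mul]
  · haveI : IsEmpty {x : X // x * g * x⁻¹ = g'} :=
      ⟨fun x => h (isConj_iff.2 ⟨x.1, x.2⟩).symm⟩
    rw [Nat.card_of_isEmpty, Nat.cast_zero]

variable (p : ℕ) [hp : Fact p.Prime]

/-- The pairs `(x, h')` with `x` conjugating `v h` to `v h'`. -/
theorem sum_column [Fintype (IrrCharacter X)] (V G : Subgroup X) [V.Normal]
    (hVexp : ∀ w ∈ V, w ^ p = 1) (hVc : ∀ a ∈ V, ∀ b ∈ V, a * b = b * a)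
    (hGV : Subgroup.IsComplement' V G) (hG : ¬ p ∣ Nat.card G) {v : X} (hv : v ∈ V)
    (C : Subgroup X) (hC : C = G ⊓ Subgroup.centralizer ({v} : Set X)) [Fintype C] (f : C → ℂ)
    (hf : ∀ g h, f (g * h * g⁻¹) = f h) (h : C) :
    ∑ h' : C, f h' * (∑ χ : IrrCharacter X, (χ : X → ℂ) (v * h) * conj ((χ : X → ℂ) (v * h'))) =
      f h * ((Nat.card C : ℂ) *
        (Nat.card (V ⊓ Subgroup.centralizer ({(h : X)} : Set X) : Subgroup X) : ℂ)) := by
  classical
  haveI := Fintype.ofFinite X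
  have hCG : ∀ a : C, (a : X) ∈ G := fun a => (hC.le a.2).1
  have hCv : ∀ a : C, (a : X) * v = v * (a : X) := fun a =>
    Subgroup.mem_centralizer_singleton_iff.1 (hC.le a.2).2
  have hdisj : ∀ x, x ∈ V → x ∈ G → x = 1 := fun x h1 h2 => by
    have := hGV.disjoint
    rw [disjoint_iff] at this
    exact Subgroup.mem_bot.1 (this ▸ ⟨h1, h2⟩)
  have hcop : Nat.Coprime p (Nat.card C) := hp.out.coprime_iff_not_dvd.2 fun hd =>
    hG (hd.trans (Subgroup.card_dvd_of_le (hC.le.trans inf_le_left)))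
  have hsep : ∀ (x : X) (a b : C), x * (v * a) * x⁻¹ = v * b →
      x * v * x⁻¹ = v ∧ x * a * x⁻¹ = b := by
    intro x a b e
    obtain ⟨n, hn1, hn0⟩ := Nat.chineseRemainder hcop 1 0
    have hk : ∀ c : C, (v * (c : X)) ^ n = v := fun c => by
      rw [(show Commute v (c : X) from (hCv c).symm).mul_pow, ← Subgroup.coe_pow]
      obtain ⟨k, hk⟩ := Nat.modEq_zero_iff_dvd.1 hn0
      rw [show c ^ n = 1 by rw [hk, pow_mul, pow_card_eq_one', one_pow], Subgroup.coe_one, mul_one,
        pow_eq_pow_mod n (hVexp v hv), show n % p = 1 % p from hn1, ← pow_eq_pow_mod 1 (hVexp v hv),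
        pow_one]
    have e1 := congrArg (· ^ n) e
    rw [conj_pow, hk a, hk b] at e1
    refine ⟨e1, ?_⟩
    rw [show x * (v * a) * x⁻¹ = (x * v * x⁻¹) * (x * a * x⁻¹) by group, e1] at e
    exact mul_left_cancel e
  -- the pairs are `C × C_V(h)`
  have hbij : ∃ φ : (C × (V ⊓ Subgroup.centralizer ({(h : X)} : Set X) : Subgroup X)) →
      Σ h' : C, {x : X // x * (v * h) * x⁻¹ = v * h'}, Function.Bijective φ ∧
        ∀ a, f (φ a).1 = f h := by
    refine ⟨fun a => ⟨a.1 * h * a.1⁻¹, (a.1 : X) * (a.2 : X), ?_⟩, ⟨?_, ?_⟩,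
      fun a => hf a.1 h⟩
    · obtain ⟨y, w, hw⟩ := a
      have h1 : Commute (w : X) (v * h) := Commute.mul_right (hVc w hw.1 v hv)
        (Subgroup.mem_centralizer_singleton_iff.1 hw.2)
      rw [show (y : X) * w * (v * h) * ((y : X) * w)⁻¹ =
          (y : X) * (w * (v * h) * (w : X)⁻¹) * (y : X)⁻¹ by group, h1.eq, mul_inv_cancel_right,
        Subgroup.coe_mul, Subgroup.coe_mul, Subgroup.coe_inv, ← mul_assoc (y : X) v, hCv y]
      group
    · rintro ⟨y, w, hw⟩ ⟨y', w', hw'⟩ e
      have e1 : (y : X) * w = (y' : X) * w' := congrArg (fun s => (s.2 : X)) e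
      have e2 : (y : X) = (y' : X) := by
        have h3 : (y' : X)⁻¹ * y = w' * (w : X)⁻¹ := by
          rw [eq_mul_inv_iff_mul_eq, mul_assoc, e1, inv_mul_cancel_left]
        exact (inv_mul_eq_one.1 (hdisj _ (h3 ▸ V.mul_mem hw'.1 (V.inv_mem hw.1))
          (G.mul_mem (G.inv_mem (hCG y')) (hCG y)))).symm
      rw [e2, mul_right_inj] at e1
      exact Prod.ext (Subtype.ext e2) (Subtype.ext e1)
    · rintro ⟨h', x, hx⟩
      obtain ⟨hxv, hxh⟩ := hsep x h h' hx
      obtain ⟨⟨⟨y, hy⟩, ⟨w, hw⟩⟩, hxe : y * w = x⟩ := hGV.symm.2 x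
      subst hxe
      have hwv : w * v * w⁻¹ = v := by rw [hVc w hw v hv, mul_inv_cancel_right]
      have hyv : y * v * y⁻¹ = v := by
        rw [show y * w * v * (y * w)⁻¹ = y * (w * v * w⁻¹) * y⁻¹ by group, hwv] at hxv
        exact hxv
      have hyC : y ∈ C := by
        rw [hC]
        exact ⟨hy, Subgroup.mem_centralizer_singleton_iff.2 (mul_inv_eq_iff_eq_mul.1 hyv)⟩
      have h1 : w * h * w⁻¹ = (h : X) := by
        have h2 : w * h * w⁻¹ = y⁻¹ * (h' : X) * y := by rw [← hxh]; group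
        refine mul_inv_eq_one.1 (hdisj _ ?_ (G.mul_mem (h2 ▸ G.mul_mem (G.mul_mem
          (G.inv_mem hy) (hCG h')) hy) (G.inv_mem (hCG h))))
        rw [show w * h * w⁻¹ * (h : X)⁻¹ = w * ((h : X) * w⁻¹ * (h : X)⁻¹) by group]
        exact V.mul_mem hw (Subgroup.Normal.conj_mem inferInstance _ (V.inv_mem hw) _)
      refine ⟨(⟨y, hyC⟩, ⟨w, hw, Subgroup.mem_centralizer_singleton_iff.2
        (mul_inv_eq_iff_eq_mul.1 h1)⟩), ?_⟩
      have h3 : (⟨y, hyC⟩ : C) * h * (⟨y, hyC⟩ : C)⁻¹ = h' := Subtype.ext (by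
        rw [Subgroup.coe_mul, Subgroup.coe_mul, Subgroup.coe_inv]
        conv_lhs => rw [← h1]
        rw [← hxh]
        group)
      subst h3
      rfl
  obtain ⟨φ, hφ, hfφ⟩ := hbij
  simp only [sum_irr_mul_conj, mul_comm (f _) (Nat.cast _ : ℂ)]
  calc ∑ h' : C, (Nat.card {x : X // x * (v * h) * x⁻¹ = v * h'} : ℂ) * f h'
      = ∑ s : Σ h' : C, {x : X // x * (v * h) * x⁻¹ = v * h'}, f s.1 := by
        rw [Fintype.sum_sigma]
        refine Finset.sum_congr rfl fun h' _ => ?_
        dsimp only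
        rw [Finset.sum_const, Finset.card_univ, nsmul_eq_mul, Nat.card_eq_fintype_card]
    _ = ∑ _a : C × (V ⊓ Subgroup.centralizer ({(h : X)} : Set X) : Subgroup X), f h := by
        rw [← Equiv.sum_comp (Equiv.ofBijective φ hφ)]
        exact Finset.sum_congr rfl fun a _ => hfφ a
    _ = _ := by
        rw [Finset.sum_const, Finset.card_univ, nsmul_eq_mul, Fintype.card_prod, Nat.cast_mul,
          ← Nat.card_eq_fintype_card, ← Nat.card_eq_fintype_card]
        ring

end Column

set_option maxHeartbeats 1000000 in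
/-- The real vector criterion. -/
theorem card_classes_le {X : Type u} [Group X] [Finite X] (p : ℕ) [hp : Fact p.Prime]
    (V : Subgroup X) [V.Normal] (hVexp : ∀ v ∈ V, v ^ p = 1) (hidx : ¬ p ∣ V.index)
    (hself : Subgroup.centralizer (V : Set X) = V) (G : Subgroup X)
    (hGV : Subgroup.IsComplement' V G) (v : X) (hv : v ∈ V) (U : Subgroup X) (hUV : U ≤ V)
    (hUinv : ∀ h ∈ G, h * v * h⁻¹ = v → ∀ u ∈ U, h * u * h⁻¹ ∈ U)
    (hUfaith : ∀ h ∈ G, h * v * h⁻¹ = v → (∀ u ∈ U, h * u * h⁻¹ = u) → h = 1)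
    (β : X → X → ZMod p) (hβl : ∀ u ∈ U, ∀ u' ∈ U, ∀ w ∈ U, β (u * u') w = β u w + β u' w)
    (hβr : ∀ u ∈ U, ∀ w ∈ U, ∀ w' ∈ U, β u (w * w') = β u w + β u w')
    (hβinv : ∀ h ∈ G, h * v * h⁻¹ = v → ∀ u ∈ U, ∀ w ∈ U,
      β (h * u * h⁻¹) (h * w * h⁻¹) = β u w)
    (hβnd : ∀ u ∈ U, (∀ w ∈ U, β u w = 0) → u = 1) :
    Nat.card (ConjClasses X) ≤ Nat.card V := by
  classical
  haveI := Fintype.ofFinite X
  haveI := Chars.irrFintype X
  have hVc : ∀ a ∈ V, ∀ b ∈ V, a * b = b * a := fun a ha b hb => by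
    have : b ∈ Subgroup.centralizer (V : Set X) := by rw [hself]; exact hb
    exact Subgroup.mem_centralizer_iff.1 this a ha
  have hGcard : ¬ p ∣ Nat.card G := by rwa [← hGV.symm.index_eq_card]
  obtain ⟨C, hC⟩ : ∃ C, C = G ⊓ Subgroup.centralizer ({v} : Set X) := ⟨_, rfl⟩
  haveI := Fintype.ofFinite C
  have hCG : ∀ a : C, (a : X) ∈ G := fun a => (hC.le a.2).1
  have hCc : ∀ a : C, (a : X) * v = v * (a : X) := fun a =>
    Subgroup.mem_centralizer_singleton_iff.1 (hC.le a.2).2
  have hCv : ∀ a : C, (a : X) * v * (a : X)⁻¹ = v := fun a => by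
    rw [hCc a, mul_inv_cancel_right]
  have hCp : ¬ p ∣ Nat.card C := fun hd =>
    hGcard (hd.trans (Subgroup.card_dvd_of_le (hC.le.trans inf_le_left)))
  -- the module
  letI : CommGroup U := { (inferInstance : Group U) with
    mul_comm := fun a b => Subtype.ext (hVc a (hUV a.2) b (hUV b.2)) }
  letI : Module (ZMod p) (Additive U) := AddCommGroup.zmodModule (n := p) fun x =>
    Additive.toMul.injective (Subtype.ext (hVexp _ (hUV x.toMul.2)))
  let act : C → Additive U →+ Additive U := fun a =>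
    { toFun := fun x => Additive.ofMul ⟨a * x.toMul * (a : X)⁻¹,
        hUinv a (hCG a) (hCv a) _ x.toMul.2⟩
      map_zero' := Additive.toMul.injective (Subtype.ext (by simp))
      map_add' := fun x y => Additive.toMul.injective (Subtype.ext (by
        simp only [toMul_add, toMul_ofMul, Subgroup.coe_mul]
        group)) }
  let ρ : Representation (ZMod p) C (Additive U) :=
    { toFun := fun a => (act a).toZModLinearMap p
      map_one' := LinearMap.ext fun x => Additive.toMul.injective (Subtype.ext (by simp [act]))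
      map_mul' := fun a b => LinearMap.ext fun x => Additive.toMul.injective (Subtype.ext (by
        simp [act, mul_assoc])) }
  have hρ : ∀ (a : C) (x : Additive U),
      ((ρ a x).toMul : X) = a * (x.toMul : X) * (a : X)⁻¹ := fun a x => rfl
  let B1 : Additive U → (Additive U →ₗ[ZMod p] ZMod p) := fun x =>
    (AddMonoidHom.mk' (fun y : Additive U => β x.toMul y.toMul)
      (fun y z => hβr _ x.toMul.2 _ y.toMul.2 _ z.toMul.2)).toZModLinearMap p
  let B : LinearMap.BilinForm (ZMod p) (Additive U) :=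
    (AddMonoidHom.mk' B1 (fun x x' => LinearMap.ext fun y =>
      hβl _ x.toMul.2 _ x'.toMul.2 _ y.toMul.2)).toZModLinearMap p
  obtain ⟨δ, hδ1, hδn, hδZ, hδK, hδA⟩ := piece_of_form ρ hCp B
    (fun a x y => hβinv a (hCG a) (hCv a) _ x.toMul.2 _ y.toMul.2)
    (fun x hx => Additive.toMul.injective (Subtype.ext
      (hβnd _ x.toMul.2 fun w hw => hx (Additive.ofMul ⟨w, hw⟩))))
  -- facts on `δ`
  have hfix0 : ∀ a : C, (fix ρ a : ℂ) ≠ 0 := fun a => Nat.cast_ne_zero.2 (fix_pos ρ a).ne'
  have hδint : ∀ a, IsIntegral ℤ (δ a) := fun a => by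
    obtain ⟨m, hm, hm'⟩ := hδZ a
    exact IsIntegral.of_pow hm (isIntegral_of_mem_Zp p hm')
  have hclass : ∀ g a, δ (g * a * g⁻¹) = δ a := fun g a => by
    have h1 := hδA.classFun g a
    have h2 : (fix ρ (g * a * g⁻¹) : ℂ) = fix ρ a := (adm_fix ρ).classFun g a
    rw [h2] at h1
    exact mul_left_cancel₀ (hfix0 a) h1
  obtain ⟨P, hP⟩ := CharApps.exists_pModular p
  have hδP : ∀ a : C, a ≠ 1 → Ideal.Quotient.mk P (⟨δ a, hδint a⟩ : AlgInt) = 0 := by
    intro a ha
    obtain ⟨m, hm, hm'⟩ := hδZ a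
    have hdvd : fix ρ a ∣ Nat.card (Additive U) := by
      rw [← dd_ker]
      exact AddSubgroup.card_addSubgroup_dvd_card (dd ρ a).ker
    obtain ⟨n, hn⟩ := hdvd
    refine quot_eq_zero_of_normSq hP hm hm' (n := n) ?_ ?_
    · apply mul_right_cancel₀ (hfix0 a)
      rw [hδn a, hn, Nat.cast_mul, mul_comm]
    · have hpow : Nat.card (Additive U) = p ^ Module.finrank (ZMod p) (Additive U) := by
        haveI := Fintype.ofFinite (Additive U)
        rw [Nat.card_eq_fintype_card, Module.card_eq_pow_finrank (K := ZMod p) (V := Additive U),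
          ZMod.card]
      obtain ⟨k, -, hk⟩ := (Nat.dvd_prime_pow hp.out).1 (hpow ▸ Dvd.intro_left _ hn.symm)
      rcases k with _ | k
      · rw [pow_zero] at hk
        rw [hk, mul_one] at hn
        haveI := Fintype.ofFinite (Additive U)
        have hall : ∀ x, ρ a x = x := by
          rw [fix, Nat.card_eq_fintype_card, Nat.card_eq_fintype_card] at hn
          intro x
          exact ((Fintype.bijective_iff_injective_and_card
            (Subtype.val : {w // ρ a w = w} → Additive U)).2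
            ⟨Subtype.val_injective, hn.symm⟩).2 x |>.elim fun y hy => hy ▸ y.2
        refine absurd (Subtype.ext (hUfaith a (hCG a) (hCv a) fun u hu => ?_)) ha
        have := congrArg (fun y : Additive U => (y.toMul : X)) (hall (Additive.ofMul ⟨u, hu⟩))
        simpa [hρ] using this
      · exact hk ▸ dvd_pow_self p (by omega)
  -- the coefficients
  have hpv : v ^ p = 1 := hVexp v hv
  have hmC : (Nat.card C : ℂ) ≠ 0 := Nat.cast_ne_zero.2 Nat.card_pos.ne'
  have hχA : ∀ χ : IrrCharacter X, Adm (fun a : C => (χ : X → ℂ) (v * a)) := fun χ =>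
    adm_char (Chars.isCharacter_of_irr χ.2) C.subtype hp.out.pos hpv fun a => (hCc a).symm
  have hχint : ∀ (χ : IrrCharacter X) x, IsIntegral ℤ ((χ : X → ℂ) x) := fun χ x => by
    obtain ⟨k, ρ', hk⟩ := Chars.isCharacter_of_irr χ.2
    rw [← hk]
    exact Chars.isIntegral_character ρ' x
  let b : IrrCharacter X → ℂ := fun χ => (Nat.card C : ℂ)⁻¹ * ∑ a : C, (χ : X → ℂ) (v * a) * δ a
  have hbint : ∀ χ, IsIntegral ℤ (b χ) := by
    intro χ
    set k := Nat.totient (Nat.card C) with hk
    have hk0 : 0 < k := Nat.totient_pos.2 Nat.card_pos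
    have hq : ∀ a : C, ∃ q : ℕ, fix ρ a ^ k = 1 + Nat.card C * q := by
      intro a
      have hcop : Nat.Coprime (fix ρ a) (Nat.card C) := by
        have hdvd : fix ρ a ∣ Nat.card (Additive U) := by
          rw [← dd_ker]
          exact AddSubgroup.card_addSubgroup_dvd_card (dd ρ a).ker
        haveI := Fintype.ofFinite (Additive U)
        rw [Nat.card_eq_fintype_card (α := Additive U),
          Module.card_eq_pow_finrank (K := ZMod p) (V := Additive U), ZMod.card] at hdvd
        exact ((hp.out.coprime_iff_not_dvd.2 hCp).pow_left _).coprime_dvd_left hdvd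
      obtain ⟨q, hq⟩ := (Nat.modEq_iff_dvd' (Nat.one_le_pow _ _ (fix_pos ρ a))).1
        (Nat.ModEq.pow_totient hcop).symm
      refine ⟨q, ?_⟩
      rw [← hq, ← Nat.add_sub_assoc (Nat.one_le_pow _ _ (fix_pos ρ a)), add_tsub_cancel_left]
    choose q hq using hq
    have h1 : b χ = ((Fintype.card C : ℂ)⁻¹ * ∑ a : C,
        (χ : X → ℂ) (v * a) * ((fix ρ a : ℂ) * δ a) * (fix ρ a : ℂ) ^ (k - 1)) -
        ∑ a : C, (χ : X → ℂ) (v * a) * δ a * (q a : ℂ) := by
      simp only [b, ← Nat.card_eq_fintype_card]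
      rw [eq_sub_iff_add_eq, Finset.mul_sum, Finset.mul_sum, ← Finset.sum_add_distrib]
      refine Finset.sum_congr rfl fun a _ => ?_
      have e : (fix ρ a : ℂ) * (fix ρ a : ℂ) ^ (k - 1) = 1 + (Nat.card C : ℂ) * q a := by
        rw [← pow_succ', show k - 1 + 1 = k by omega]
        exact_mod_cast hq a
      field_simp
      linear_combination -((χ : X → ℂ) (v * a) * δ a) * e
    rw [h1]
    exact (((hχA χ).mul hδA).mul ((adm_fix ρ).pow (k - 1))).isIntegral_avg.sub
      (IsIntegral.sum _ fun a _ => ((hχint χ _).mul (hδint a)).mul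
        (isIntegral_natCast (q a)))
  have hbne : ∀ χ, b χ ≠ 0 := by
    intro χ h0
    obtain ⟨d, hd, hdvd⟩ := CharsMore.ito_degree_dvd V hVc χ.2
    have hsum : ∑ a : C, (χ : X → ℂ) (v * a) * δ a = 0 := (mul_eq_zero.1 h0).resolve_left
      (inv_ne_zero hmC)
    have h1 : (∑ a : C, (⟨_, hχint χ (v * a)⟩ : AlgInt) * ⟨δ a, hδint a⟩) = 0 := Subtype.ext (by
      push_cast; exact hsum)
    have h2 := congrArg (Ideal.Quotient.mk P) h1
    rw [map_zero, map_sum, Finset.sum_eq_single 1 (fun a _ ha => by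
      rw [map_mul, hδP a ha, mul_zero]) (fun h => absurd (Finset.mem_univ _) h), map_mul,
      show (⟨δ 1, hδint 1⟩ : AlgInt) = 1 from Subtype.ext hδ1, map_one, mul_one] at h2
    obtain ⟨n, ρ', hn'⟩ := Chars.isCharacter_of_irr χ.2
    obtain ⟨bb, μ, hμ, -, -, -, htr, -⟩ := Chars.exists_eigenbasis_rep ρ' v
    let μ' : Fin (Module.finrank ℂ (Fin n → ℂ)) → AlgInt := fun i =>
      ⟨μ i, isIntegral_of_pow_eq_one (orderOf_pos v) (hμ i)⟩
    have h3 : (⟨_, hχint χ (v * (1 : C))⟩ : AlgInt) = ∑ i, μ' i := Subtype.ext (by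
      simp only [Subgroup.coe_one, mul_one, μ']
      rw [← hn', htr]
      push_cast
      rfl)
    rw [h3, map_sum, Finset.sum_congr rfl fun i _ => quot_pow_eq_one hP (k := 1) (a := μ' i)
      (Subtype.ext (by
        obtain ⟨c, hc⟩ := orderOf_dvd_of_pow_eq_one hpv
        push_cast
        show μ i ^ p ^ 1 = 1
        rw [pow_one, hc, pow_mul, hμ i, one_pow])), Finset.sum_const, Finset.card_univ, nsmul_eq_mul,
      mul_one, ← map_natCast (Ideal.Quotient.mk P), Ideal.Quotient.eq_zero_iff_mem] at h2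
    haveI : P.IsMaximal := hP.2.1
    haveI : P.IsPrime := Ideal.IsMaximal.isPrime ‹_›
    have h4 := (Blocks.natCast_mem_iff hp.out hP.2.2 _).1 h2
    have h5 : (d : ℂ) = (n : ℂ) := by rw [← hd, ← hn']; simp
    rw [Fintype.card_fin, Module.finrank_fin_fun, ← Nat.cast_inj.1 h5] at h4
    exact hidx (h4.trans hdvd)
  have hbK : ∀ χ, b χ ∈ Kc (Nat.card X * p) := by
    intro χ
    refine mul_mem (inv_mem (natCast_mem _ _)) (sum_mem fun a _ => mul_mem ?_ ?_)
    · exact char_mem_Kc (Chars.isCharacter_of_irr χ.2) ((orderOf_dvd_natCard _).trans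
        (dvd_mul_right _ _))
    · exact Kc_mono (Nat.mul_dvd_mul_right (Subgroup.card_subgroup_dvd_card C) p) (hδK a)
  -- the sum of squares
  let cV : C → ℕ := fun a =>
    Nat.card (V ⊓ Subgroup.centralizer ({(a : X)} : Set X) : Subgroup X)
  let S : ℚ := (Nat.card C : ℚ)⁻¹ * ∑ a : C, ((Nat.card (Additive U) * cV a : ℕ) : ℚ) / fix ρ a
  have hS : ∑ χ, b χ * conj (b χ) = (S : ℂ) := by
    simp only [b, map_mul, map_inv₀, Complex.conj_natCast, map_sum]
    rw [Finset.sum_congr rfl (g := fun χ : IrrCharacter X => (Nat.card C : ℂ)⁻¹ ^ 2 *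
      ∑ a : C, ∑ a' : C, δ a * (conj (δ a') *
        ((χ : X → ℂ) (v * a) * conj ((χ : X → ℂ) (v * a'))))) fun χ _ => by
      rw [mul_mul_mul_comm, ← sq, Finset.sum_mul_sum]
      exact congrArg _ (Finset.sum_congr rfl fun a _ => Finset.sum_congr rfl fun a' _ => by ring)]
    rw [← Finset.mul_sum, Finset.sum_comm]
    simp only [S, Rat.cast_mul, Rat.cast_inv, Rat.cast_natCast, Rat.cast_sum, Rat.cast_div,
      Finset.mul_sum]
    refine Finset.sum_congr rfl fun a _ => ?_
    rw [Finset.sum_comm]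
    simp only [← Finset.mul_sum]
    rw [sum_column p V G hVexp hVc hGV hGcard hv C hC (fun a' => conj (δ a'))
      (fun g a' => by rw [hclass]) a]
    have h1 := hδn a
    push_cast
    field_simp [hfix0 a]
    linear_combination (cV a : ℂ) * h1
  have hSle : S ≤ (Nat.card V : ℚ) := by
    have hterm : ∀ a : C, ((Nat.card (Additive U) * cV a : ℕ) : ℚ) / fix ρ a ≤ Nat.card V := by
      intro a
      rw [div_le_iff₀ (by exact_mod_cast fix_pos ρ a)]
      set D := V ⊓ Subgroup.centralizer ({(a : X)} : Set X) with hD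
      have e1 : fix ρ a = Nat.card (U ⊓ D : Subgroup X) := by
        refine Nat.card_congr
          { toFun := fun x => ⟨(x.1.toMul : X), x.1.toMul.2, hUV x.1.toMul.2,
              Subgroup.mem_centralizer_singleton_iff.2 ?_⟩
            invFun := fun x => ⟨Additive.ofMul ⟨x.1, x.2.1⟩, Additive.toMul.injective
              (Subtype.ext ?_)⟩
            left_inv := fun x => rfl
            right_inv := fun x => rfl }
        · have := congrArg (fun y : Additive U => (y.toMul : X)) x.2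
          simp only [hρ] at this
          exact (mul_inv_eq_iff_eq_mul.1 this).symm
        · rw [hρ, toMul_ofMul]
          exact mul_inv_eq_iff_eq_mul.2 (Subgroup.mem_centralizer_singleton_iff.1 x.2.2.2).symm
      have e2 : Nat.card (U ⊓ D : Subgroup X) * D.relIndex U = Nat.card U := by
        have h2 : (U ⊓ D).relIndex U = D.relIndex U := Subgroup.inf_relIndex_left U D
        rw [← h2, ← Subgroup.relIndex_bot_left, ← Subgroup.relIndex_bot_left,
          Subgroup.relIndex_mul_relIndex _ _ _ bot_le inf_le_left]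
      have e3 : Nat.card D * D.relIndex V = Nat.card V := by
        rw [← Subgroup.relIndex_bot_left, ← Subgroup.relIndex_bot_left,
          Subgroup.relIndex_mul_relIndex _ _ _ bot_le inf_le_left]
      have e4 : D.relIndex U ≤ D.relIndex V :=
        Subgroup.relIndex_le_of_le_right hUV Subgroup.index_ne_zero_of_finite
      have e5 : Nat.card (Additive U) * cV a ≤ Nat.card V * fix ρ a := by
        rw [Nat.card_congr Additive.toMul, e1, ← e2, ← e3,
          show cV a = Nat.card D from rfl]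
        calc _ = Nat.card (U ⊓ D : Subgroup X) * Nat.card D * D.relIndex U := by ring
          _ ≤ Nat.card (U ⊓ D : Subgroup X) * Nat.card D * D.relIndex V :=
              Nat.mul_le_mul_left _ e4
          _ = _ := by ring
      exact_mod_cast e5
    have hm : (0 : ℚ) < Nat.card C := by exact_mod_cast Nat.card_pos
    calc S ≤ (Nat.card C : ℚ)⁻¹ * ∑ _a : C, (Nat.card V : ℚ) :=
          mul_le_mul_of_nonneg_left (Finset.sum_le_sum fun a _ => hterm a) (inv_nonneg.2 hm.le)
      _ = Nat.card V := by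
          rw [Finset.sum_const, Finset.card_univ, nsmul_eq_mul, ← Nat.card_eq_fintype_card,
            inv_mul_cancel_left₀ hm.ne']
  have h := (card_le_of_sum_normSq (Nat.mul_pos Nat.card_pos hp.out.pos) b hbK hbint hbne hS).trans
    hSle
  rw [← Chars.card_irr_eq_card_classes, Nat.card_eq_fintype_card]
  exact_mod_cast h

end CfsgLib.CharsMore.Gow
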