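import Cfsg.Prelude.Def_Characters
import Cfsg.Prelude.Def_Blocks
import Cfsg.Agent.Lib.Chars.Basic

/-!
# Class functions written as twisted traces with integral twist
-/

set_option autoImplicit false
set_option linter.style.haveILetI false
set_option linter.unusedSectionVars false

namespace CfsgLib.CharsMore.Gow

open Cfsg CfsgLib Matrix Polynomial
open scoped ComplexConjugate Kronecker

universe u v

theorem isIntegral_mul_of_commute {R A : Type*} [CommRing R] [Ring A] [Algebra R A] {a b : A}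
    (hab : Commute a b) (ha : IsIntegral R a) (hb : IsIntegral R b) : IsIntegral R (a * b) := by
  have := Algebra.isMulCommutative_adjoin R (s := ({a, b} : Set A)) (by
    rintro x (rfl | rfl) y (rfl | rfl)
    exacts [rfl, hab, hab.symm, rfl])
  let S := Algebra.adjoin R ({a, b} : Set A)
  letI : CommRing S := { (inferInstance : Ring S) with
    mul_comm := fun x y => this.is_comm.comm x y }
  have ha' : IsIntegral R (⟨a, Algebra.subset_adjoin (Set.mem_insert a _)⟩ : S) :=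
    (isIntegral_algHom_iff S.val Subtype.val_injective).1 ha
  have hb' : IsIntegral R (⟨b, Algebra.subset_adjoin (Set.mem_insert_of_mem a rfl)⟩ : S) :=
    (isIntegral_algHom_iff S.val Subtype.val_injective).1 hb
  exact (ha'.mul hb').map S.val

theorem isIntegral_of_pow_eq_one {A : Type*} [Ring A] {a : A} {k : ℕ} (hk : 0 < k)
    (ha : a ^ k = 1) : IsIntegral ℤ a :=
  ⟨X ^ k - 1, monic_X_pow_sub_C (1 : ℤ) hk.ne', by simp [ha]⟩

theorem isIntegral_trace {ι : Type u} [Fintype ι] [DecidableEq ι] {M : Matrix ι ι ℂ}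
    (hM : IsIntegral ℤ M) : IsIntegral ℤ M.trace := by
  rcases isEmpty_or_nonempty ι with hι | hι
  · simp [Matrix.trace, isIntegral_zero]
  obtain ⟨q, hq, hqM⟩ := hM
  rw [Matrix.trace_eq_sum_roots_charpoly]
  refine IsIntegral.multiset_sum fun μ hμ => ⟨q, hq, ?_⟩
  have h1 : μ ∈ spectrum ℂ M :=
    Matrix.mem_spectrum_iff_isRoot_charpoly.2 (Polynomial.isRoot_of_mem_roots hμ)
  have h2 := spectrum.subset_polynomial_aeval M (q.map (algebraMap ℤ ℂ)) ⟨μ, h1, rfl⟩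
  rw [aeval_map_algebraMap, aeval_def, hqM, spectrum.zero_eq, Set.mem_singleton_iff] at h2
  rw [← eval_map]
  exact h2

theorem isIntegral_of_entries {ι : Type u} [Fintype ι] [DecidableEq ι] {M : Matrix ι ι ℂ}
    (hM : ∀ i j, IsIntegral ℤ (M i j)) : IsIntegral ℤ M := by
  let M' : Matrix ι ι AlgInt := Matrix.of fun i j => ⟨M i j, hM i j⟩
  haveI : Algebra.IsIntegral ℤ AlgInt := inferInstance
  have h1 : IsIntegral ℤ M' := isIntegral_trans M' (Matrix.isIntegral M')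
  have h2 := h1.map (AlgInt.val.mapMatrix (m := ι))
  convert h2 using 1
  ext i j
  rfl

variable {C : Type u} [Group C]

/-- Twisted traces with an integral twist. -/
def Adm (f : C → ℂ) : Prop :=
  ∃ (n : ℕ) (R : C →* Matrix (Fin n) (Fin n) ℂ) (Z : Matrix (Fin n) (Fin n) ℂ),
    IsIntegral ℤ Z ∧ (∀ h, Commute Z (R h)) ∧ ∀ h, f h = (Z * R h).trace

theorem Adm.of_rep {ι : Type v} [Fintype ι] [DecidableEq ι] (R : C →* Matrix ι ι ℂ)
    (Z : Matrix ι ι ℂ) (hZ : IsIntegral ℤ Z) (hc : ∀ h, Commute Z (R h)) {f : C → ℂ}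
    (hf : ∀ h, f h = (Z * R h).trace) : Adm f := by
  let e := Matrix.reindexAlgEquiv ℂ ℂ (Fintype.equivFin ι)
  refine ⟨_, (e : Matrix ι ι ℂ →* _).comp R, e Z,
    hZ.map (e.toAlgHom.restrictScalars ℤ), fun h => ?_, fun h => ?_⟩
  · exact (hc h).map e
  · show f h = (e Z * e (R h)).trace
    rw [← map_mul, hf h]
    simp only [Matrix.trace, e, Matrix.coe_reindexAlgEquiv, Matrix.reindex_apply,
      Matrix.diag_apply, Matrix.submatrix_apply]
    exact (Equiv.sum_comp (Fintype.equivFin ι).symm fun i => (Z * R h) i i).symm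

theorem Adm.one : Adm (fun _ : C => (1 : ℂ)) :=
  ⟨1, 1, 1, isIntegral_one, fun _ => Commute.one_left _, fun _ => by simp⟩

theorem Adm.mul {f f' : C → ℂ} (hf : Adm f) (hf' : Adm f') : Adm (fun h => f h * f' h) := by
  obtain ⟨n, R, Z, hZ, hc, hf⟩ := hf
  obtain ⟨n', R', Z', hZ', hc', hf'⟩ := hf'
  let R2 : C →* Matrix (Fin n × Fin n') (Fin n × Fin n') ℂ :=
    { toFun := fun h => R h ⊗ₖ R' h
      map_one' := by simp
      map_mul' := fun g h => by rw [map_mul, map_mul, Matrix.mul_kronecker_mul] }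
  refine Adm.of_rep R2 (Z ⊗ₖ Z') ?_ (fun h => ?_) fun h => ?_
  · let i₁ : Matrix (Fin n) (Fin n) ℂ →ₐ[ℂ] Matrix (Fin n × Fin n') (Fin n × Fin n') ℂ :=
      AlgHom.ofLinearMap
        { toFun := fun A => A ⊗ₖ (1 : Matrix (Fin n') (Fin n') ℂ)
          map_add' := fun A B => Matrix.add_kronecker A B _
          map_smul' := fun c A => Matrix.smul_kronecker c A _ }
        (by simp) (fun A B => by simp [← Matrix.mul_kronecker_mul])
    let i₂ : Matrix (Fin n') (Fin n') ℂ →ₐ[ℂ] Matrix (Fin n × Fin n') (Fin n × Fin n') ℂ :=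
      AlgHom.ofLinearMap
        { toFun := fun A => (1 : Matrix (Fin n) (Fin n) ℂ) ⊗ₖ A
          map_add' := fun A B => Matrix.kronecker_add _ A B
          map_smul' := fun c A => Matrix.kronecker_smul c _ A }
        (by simp) (fun A B => by simp [← Matrix.mul_kronecker_mul])
    have e : Z ⊗ₖ Z' = i₁ Z * i₂ Z' := by simp [i₁, i₂, ← Matrix.mul_kronecker_mul]
    rw [e]
    refine isIntegral_mul_of_commute ?_ (hZ.map (i₁.restrictScalars ℤ))
      (hZ'.map (i₂.restrictScalars ℤ))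
    simp [i₁, i₂, Commute, SemiconjBy, ← Matrix.mul_kronecker_mul]
  · show Z ⊗ₖ Z' * (R h ⊗ₖ R' h) = R h ⊗ₖ R' h * (Z ⊗ₖ Z')
    rw [← Matrix.mul_kronecker_mul, ← Matrix.mul_kronecker_mul, (hc h).eq, (hc' h).eq]
  · show f h * f' h = (Z ⊗ₖ Z' * (R h ⊗ₖ R' h)).trace
    rw [← Matrix.mul_kronecker_mul, Matrix.trace_kronecker, hf, hf']

theorem Adm.pow {f : C → ℂ} (hf : Adm f) : ∀ k : ℕ, Adm (fun h => f h ^ k)
  | 0 => by simpa using Adm.one
  | k + 1 => by simpa [pow_succ] using (hf.pow k).mul hf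

theorem Adm.classFun {f : C → ℂ} (hf : Adm f) (g h : C) : f (g * h * g⁻¹) = f h := by
  obtain ⟨n, R, Z, -, hc, hf⟩ := hf
  rw [hf, hf, map_mul, map_mul, ← mul_assoc, ← mul_assoc, (hc g).eq, Matrix.trace_mul_comm,
    ← mul_assoc, ← mul_assoc, ← map_mul, inv_mul_cancel, map_one, one_mul]

theorem Adm.isIntegral_avg [Fintype C] {f : C → ℂ} (hf : Adm f) :
    IsIntegral ℤ ((Fintype.card C : ℂ)⁻¹ * ∑ h, f h) := by
  obtain ⟨n, R, Z, hZ, hc, hf⟩ := hf
  set P : Matrix (Fin n) (Fin n) ℂ := (Fintype.card C : ℂ)⁻¹ • ∑ h, R h with hP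
  have hPP : P * P = P := by
    rw [hP, smul_mul_assoc, mul_smul_comm, Finset.sum_mul]
    simp only [Finset.mul_sum, ← map_mul]
    have hshift : ∀ g, ∑ h, R (g * h) = ∑ h, R h := fun g =>
      Equiv.sum_comp (Equiv.mulLeft g) (fun h => R h)
    rw [Finset.sum_congr rfl fun g _ => hshift g,
      Finset.sum_const, Finset.card_univ, ← Nat.cast_smul_eq_nsmul ℂ, smul_smul _ (Fintype.card C : ℂ),
      inv_mul_cancel₀ (Nat.cast_ne_zero.2 Fintype.card_ne_zero), one_smul]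
  have hPint : IsIntegral ℤ P := ⟨X ^ 2 - X, monic_X_pow_sub (by simp), by simp [pow_two, hPP]⟩
  have hcP : Commute Z P := Commute.smul_right (Commute.sum_right _ _ _ fun h _ => hc h) _
  have h1 := isIntegral_trace (isIntegral_mul_of_commute hcP hZ hPint)
  convert h1 using 1
  simp only [hf, hP, mul_smul_comm, Matrix.trace_smul, smul_eq_mul, Finset.mul_sum,
    Matrix.trace_sum]

/-- Values of characters as twisted traces. -/
theorem adm_char {X : Type v} [Group X] {χ : X → ℂ} (hχ : IsCharacter X χ) (φ : C →* X) {v : X}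
    {k : ℕ} (hk : 0 < k) (hv : v ^ k = 1) (hc : ∀ h, Commute v (φ h)) :
    Adm (fun h => χ (v * φ h)) := by
  obtain ⟨n, ρ, rfl⟩ := hχ
  let e := (LinearMap.toMatrixAlgEquiv' : ((Fin n → ℂ) →ₗ[ℂ] (Fin n → ℂ)) ≃ₐ[ℂ] _)
  let R : X →* Matrix (Fin n) (Fin n) ℂ := (e : _ →* _).comp ρ
  refine ⟨n, R.comp φ, R v, isIntegral_of_pow_eq_one hk (by rw [← map_pow, hv, map_one]),
    fun h => (hc h).map R, fun h => ?_⟩
  show ρ.character (v * φ h) = (R v * R (φ h)).trace
  rw [← map_mul]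
  exact LinearMap.trace_eq_matrix_trace ℂ (Pi.basisFun ℂ (Fin n)) _

/-! ## Roots of unity -/

/-- The field of roots of unity of exponent `M`. -/
noncomputable abbrev Kc (M : ℕ) : IntermediateField ℚ ℂ := IntermediateField.adjoin ℚ {z : ℂ | z ^ M = 1}

theorem mem_Kc {M : ℕ} {z : ℂ} (hz : z ^ M = 1) : z ∈ Kc M :=
  IntermediateField.subset_adjoin ℚ _ hz

theorem finiteDimensional_Kc {M : ℕ} (hM : 0 < M) : FiniteDimensional ℚ (Kc M) := by
  have : Finite {z : ℂ | z ^ M = 1} := by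
    refine Set.Finite.to_subtype ((nthRootsFinset M (1 : ℂ)).finite_toSet.subset fun z hz => ?_)
    simpa [Polynomial.mem_nthRootsFinset hM] using hz
  exact IntermediateField.finiteDimensional_adjoin fun z hz =>
    IsIntegral.of_pow hM (by rw [show z ^ M = 1 from hz]; exact isIntegral_one)

theorem conj_mem_Kc {M : ℕ} {z : ℂ} (hz : z ∈ Kc M) : conj z ∈ Kc M := by
  induction hz using IntermediateField.adjoin_induction with
  | mem x hx => exact mem_Kc (by rw [← map_pow, show x ^ M = 1 from hx, map_one])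
  | algebraMap r => simp
  | add x y _ _ hx hy => simpa using add_mem hx hy
  | inv x _ hx => simpa using inv_mem hx
  | mul x y _ _ hx hy => simpa using mul_mem hx hy

theorem conj_embedding {M : ℕ} (hM : 0 < M) (σ : Kc M →ₐ[ℚ] ℂ) {z : ℂ} (hz : z ∈ Kc M) :
    σ ⟨conj z, conj_mem_Kc hz⟩ = conj (σ ⟨z, hz⟩) := by
  induction hz using IntermediateField.adjoin_induction with
  | mem x hx =>
    have hx' : x ^ M = 1 := hx
    have h1 : (⟨conj x, conj_mem_Kc (mem_Kc hx')⟩ : Kc M) = (⟨x, mem_Kc hx'⟩)⁻¹ := Subtype.ext (by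
      rw [IntermediateField.coe_inv]
      exact (Complex.inv_eq_conj (Complex.norm_eq_one_of_pow_eq_one hx' hM.ne')).symm)
    have h2 : (σ ⟨x, mem_Kc hx'⟩) ^ M = 1 := by
      rw [← map_pow, show (⟨x, mem_Kc hx'⟩ : Kc M) ^ M = 1 from Subtype.ext hx', map_one]
    rw [h1, map_inv₀]
    exact Complex.inv_eq_conj (Complex.norm_eq_one_of_pow_eq_one h2 hM.ne')
  | algebraMap r =>
    rw [show (⟨algebraMap ℚ ℂ r, _⟩ : Kc M) = algebraMap ℚ (Kc M) r from rfl, AlgHom.commutes,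
      show (⟨conj (algebraMap ℚ ℂ r), _⟩ : Kc M) = algebraMap ℚ (Kc M) r from
        Subtype.ext (by simp), AlgHom.commutes]
    simp
  | add x y hx' hy' hx hy =>
    refine (congrArg σ (Subtype.ext (map_add conj x y) :
      _ = (⟨conj x, conj_mem_Kc hx'⟩ : Kc M) + ⟨conj y, conj_mem_Kc hy'⟩)).trans ?_
    rw [map_add, hx, hy, ← map_add, ← map_add]
    rfl
  | inv x hx' hx =>
    refine (congrArg σ (Subtype.ext (map_inv₀ conj x) :
      _ = (⟨conj x, conj_mem_Kc hx'⟩ : Kc M)⁻¹)).trans ?_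
    rw [map_inv₀, hx, ← map_inv₀, ← map_inv₀]
    rfl
  | mul x y hx' hy' hx hy =>
    refine (congrArg σ (Subtype.ext (map_mul conj x y) :
      _ = (⟨conj x, conj_mem_Kc hx'⟩ : Kc M) * ⟨conj y, conj_mem_Kc hy'⟩)).trans ?_
    rw [map_mul, hx, hy, ← map_mul, ← map_mul]
    rfl

theorem trace_mem_Kc [Finite C] {M : ℕ} {ι : Type v} [Fintype ι] [DecidableEq ι]
    (R : C →* Matrix ι ι ℂ) {h : C} (hM : orderOf h ∣ M) : (R h).trace ∈ Kc M := by
  let e := (Matrix.toLinAlgEquiv' : Matrix ι ι ℂ ≃ₐ[ℂ] _)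
  let ρ : Representation ℂ C (ι → ℂ) := (e : _ →* _).comp R
  obtain ⟨b, μ, hμ, -, -, -, htr, -⟩ := Chars.exists_eigenbasis_rep ρ h
  have h1 : ρ.character h = (R h).trace := Matrix.trace_toLin'_eq (R h)
  rw [← h1, htr]
  refine sum_mem fun i _ => mem_Kc ?_
  obtain ⟨c, rfl⟩ := hM
  rw [pow_mul, hμ, one_pow]

theorem char_mem_Kc {X : Type v} [Group X] [Finite X] {χ : X → ℂ} (hχ : IsCharacter X χ) {M : ℕ}
    {g : X} (hM : orderOf g ∣ M) : χ g ∈ Kc M := by
  obtain ⟨n, ρ, rfl⟩ := hχ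
  obtain ⟨b, μ, hμ, -, -, -, htr, -⟩ := Chars.exists_eigenbasis_rep ρ g
  rw [htr]
  refine sum_mem fun i _ => mem_Kc ?_
  obtain ⟨c, rfl⟩ := hM
  rw [pow_mul, hμ, one_pow]

/-- Nonzero algebraic integers have mean square conjugate at least one. -/
theorem card_le_of_sum_normSq {M : ℕ} (hM : 0 < M) {ι : Type u} [Fintype ι] (b : ι → ℂ)
    (hK : ∀ i, b i ∈ Kc M) (hint : ∀ i, IsIntegral ℤ (b i)) (hne : ∀ i, b i ≠ 0) {S : ℚ}
    (hS : ∑ i, b i * conj (b i) = (S : ℂ)) : (Fintype.card ι : ℚ) ≤ S := by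
  classical
  haveI := finiteDimensional_Kc hM
  let x : ι → Kc M := fun i => ⟨b i, hK i⟩
  have hd : Fintype.card (Kc M →ₐ[ℚ] ℂ) = Module.finrank ℚ (Kc M) := AlgHom.card ℚ (Kc M) ℂ
  have h1 : ∀ i, (Module.finrank ℚ (Kc M) : ℝ) ≤ ∑ σ : Kc M →ₐ[ℚ] ℂ, ‖σ (x i)‖ ^ 2 := by
    intro i
    have hxi : x i ≠ 0 := fun h => hne i (congrArg Subtype.val h)
    have hxint : IsIntegral ℤ (x i) :=
      (isIntegral_algebraMap_iff (A := Kc M) (B := ℂ) (algebraMap (Kc M) ℂ).injective).mp (hint i)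
    obtain ⟨m, hm⟩ := IsIntegrallyClosed.isIntegral_iff.mp (Algebra.isIntegral_norm ℚ hxint)
    have hm0 : m ≠ 0 := fun h => hxi (Algebra.norm_eq_zero_iff.mp (by rw [← hm, h, map_zero]))
    have hprod : (1 : ℝ) ≤ ∏ σ : Kc M →ₐ[ℚ] ℂ, ‖σ (x i)‖ ^ 2 := by
      rw [Finset.prod_pow, ← norm_prod, ← Algebra.norm_eq_prod_embeddings, ← hm]
      refine one_le_pow₀ ?_
      simp only [eq_intCast, map_intCast, Complex.norm_intCast]
      exact_mod_cast Int.one_le_abs hm0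
    have hpos : ∀ σ : Kc M →ₐ[ℚ] ℂ, 0 < ‖σ (x i)‖ ^ 2 := fun σ =>
      pow_pos (norm_pos_iff.2 fun h => hxi ((map_eq_zero σ).1 h)) 2
    have h2 : Real.log (∏ σ : Kc M →ₐ[ℚ] ℂ, ‖σ (x i)‖ ^ 2) ≤
        ∑ σ : Kc M →ₐ[ℚ] ℂ, (‖σ (x i)‖ ^ 2 - 1) := by
      rw [Real.log_prod (fun σ _ => (hpos σ).ne')]
      exact Finset.sum_le_sum fun σ _ => Real.log_le_sub_one_of_pos (hpos σ)
    have h3 := (Real.log_nonneg hprod).trans h2
    rw [Finset.sum_sub_distrib, Finset.sum_const, Finset.card_univ, hd, nsmul_eq_mul, mul_one]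
      at h3
    linarith
  have h2 : ∀ σ : Kc M →ₐ[ℚ] ℂ, ∑ i, ‖σ (x i)‖ ^ 2 = (S : ℝ) := by
    intro σ
    apply Complex.ofReal_injective
    push_cast
    simp only [← Complex.mul_conj']
    have h4 : ∀ i, σ (x i) * conj (σ (x i)) = σ (x i * ⟨conj (b i), conj_mem_Kc (hK i)⟩) :=
      fun i => by rw [map_mul, conj_embedding hM σ (hK i)]
    rw [Finset.sum_congr rfl fun i _ => h4 i, ← map_sum,
      show (∑ i, x i * ⟨conj (b i), conj_mem_Kc (hK i)⟩ : Kc M) = algebraMap ℚ (Kc M) S from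
        Subtype.ext (by
          rw [IntermediateField.coe_sum]
          exact hS.trans (eq_ratCast (algebraMap ℚ ℂ) S).symm), AlgHom.commutes]
    simp
  have h3 : (Fintype.card ι : ℝ) * Module.finrank ℚ (Kc M) ≤
      (S : ℝ) * Module.finrank ℚ (Kc M) := by
    calc (Fintype.card ι : ℝ) * Module.finrank ℚ (Kc M)
        = ∑ _i : ι, (Module.finrank ℚ (Kc M) : ℝ) := by simp
      _ ≤ ∑ i, ∑ σ : Kc M →ₐ[ℚ] ℂ, ‖σ (x i)‖ ^ 2 := Finset.sum_le_sum fun i _ => h1 i
      _ = _ := by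
        rw [Finset.sum_comm, Finset.sum_congr rfl fun σ _ => h2 σ, Finset.sum_const,
          Finset.card_univ, hd, nsmul_eq_mul, mul_comm]
  exact_mod_cast le_of_mul_le_mul_right h3 (by exact_mod_cast Module.finrank_pos)

end CfsgLib.CharsMore.Gow
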