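import Cfsg.Agent.Lib.CharsMore.Gow.Adm
import Cfsg.Agent.Lib.Blocks.LocalRing

/-!
# Congruences in the ring of `p`-th roots of unity; the data attached to a module
-/

set_option autoImplicit false
set_option linter.style.haveILetI false
set_option linter.unusedSectionVars false

namespace CfsgLib.CharsMore.Gow

open Cfsg CfsgLib Matrix
open scoped ComplexConjugate

universe u v

variable (p : ℕ) [hp : Fact p.Prime]

/-- The standard additive character modulo `p`. -/
noncomputable abbrev psi : AddChar (ZMod p) ℂ := ZMod.stdAddChar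

theorem psi_pow (a : ZMod p) : psi p a ^ p = 1 := by
  rw [← AddChar.map_nsmul_eq_pow, nsmul_eq_mul, ZMod.natCast_self, zero_mul, AddChar.map_zero_eq_one]

theorem psi_conj (a : ZMod p) : conj (psi p a) = psi p (-a) := ((psi p).map_neg_eq_conj a).symm

theorem psi_norm (a : ZMod p) : psi p a * conj (psi p a) = 1 := by
  rw [psi_conj, ← AddChar.map_add_eq_mul, add_neg_cancel, AddChar.map_zero_eq_one]

theorem psi_inj : Function.Injective (psi p) := ZMod.injective_stdAddChar

/-- The ring generated by the `p`-th roots of unity. -/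
noncomputable def Zp : Subalgebra ℤ ℂ := Algebra.adjoin ℤ (Set.range (psi p))

theorem psi_mem_Zp (a : ZMod p) : psi p a ∈ Zp p := Algebra.subset_adjoin ⟨a, rfl⟩

theorem conj_mem_Zp {x : ℂ} (hx : x ∈ Zp p) : conj x ∈ Zp p := by
  induction hx using Algebra.adjoin_induction with
  | mem x hx => obtain ⟨a, rfl⟩ := hx; rw [psi_conj]; exact psi_mem_Zp p _
  | algebraMap r => simp
  | add x y _ _ hx hy => rw [map_add]; exact add_mem hx hy
  | mul x y _ _ hx hy => rw [map_mul]; exact mul_mem hx hy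

theorem isIntegral_of_mem_Zp {x : ℂ} (hx : x ∈ Zp p) : IsIntegral ℤ x := by
  have : Zp p ≤ integralClosure ℤ ℂ := Algebra.adjoin_le fun z hz => by
    obtain ⟨a, rfl⟩ := hz
    exact isIntegral_of_pow_eq_one hp.out.pos (psi_pow p a)
  exact this hx

variable {p} {P : Ideal AlgInt}

theorem quot_pow_eq_one (hP : IsPModular p P) {a : AlgInt} {k : ℕ} (ha : a ^ p ^ k = 1) :
    Ideal.Quotient.mk P a = 1 := by
  haveI : P.IsMaximal := hP.2.1
  haveI : P.IsPrime := Ideal.IsMaximal.isPrime ‹_›
  haveI : IsDomain (AlgInt ⧸ P) := Ideal.Quotient.isDomain P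
  haveI : CharP (AlgInt ⧸ P) p := by
    refine ⟨fun m => ?_⟩
    rw [← map_natCast (Ideal.Quotient.mk P), Ideal.Quotient.eq_zero_iff_mem]
    exact Blocks.natCast_mem_iff hp.out hP.2.2 m
  set q := Ideal.Quotient.mk P
  have h3 : (q a - 1) ^ p ^ k = 0 := by
    rw [sub_pow_char_pow, ← map_pow, ha, map_one, one_pow, sub_self]
  exact sub_eq_zero.mp (pow_eq_zero_iff (pow_pos hp.out.pos k).ne' |>.mp h3)

/-- Complex conjugation is trivial modulo `P` on the ring of `p`-th roots of unity. -/
theorem exists_congr_conj (hP : IsPModular p P) {x : ℂ} (hx : x ∈ Zp p) :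
    ∃ a b : AlgInt, (a : ℂ) = x ∧ (b : ℂ) = conj x ∧
      Ideal.Quotient.mk P a = Ideal.Quotient.mk P b := by
  induction hx using Algebra.adjoin_induction with
  | mem x hx =>
    obtain ⟨t, rfl⟩ := hx
    have hi : ∀ s, IsIntegral ℤ (psi p s) := fun s => isIntegral_of_mem_Zp p (psi_mem_Zp p s)
    refine ⟨⟨_, hi t⟩, ⟨_, hi (-t)⟩, rfl, (psi_conj p t).symm, ?_⟩
    rw [quot_pow_eq_one hP (k := 1) (Subtype.ext (by simpa using psi_pow p t)),
      quot_pow_eq_one hP (k := 1) (Subtype.ext (by simpa using psi_pow p (-t)))]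
  | algebraMap r => exact ⟨(r : AlgInt), (r : AlgInt), by simp, by simp, rfl⟩
  | add x y _ _ hx hy =>
    obtain ⟨a, b, ha, hb, hab⟩ := hx
    obtain ⟨c, d, hc, hd, hcd⟩ := hy
    exact ⟨a + c, b + d, by simp [ha, hc], by simp [hb, hd], by rw [map_add, map_add, hab, hcd]⟩
  | mul x y _ _ hx hy =>
    obtain ⟨a, b, ha, hb, hab⟩ := hx
    obtain ⟨c, d, hc, hd, hcd⟩ := hy
    exact ⟨a * c, b * d, by simp [ha, hc], by simp [hb, hd], by rw [map_mul, map_mul, hab, hcd]⟩

/-- An element with a power in `Zp` and squared modulus divisible by `p` lies in `P`. -/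
theorem quot_eq_zero_of_normSq (hP : IsPModular p P) {a : AlgInt} {m n : ℕ} (hm : 0 < m)
    (ha : (a : ℂ) ^ m ∈ Zp p) (hn : (a : ℂ) * conj (a : ℂ) = (n : ℂ)) (hpn : p ∣ n) :
    Ideal.Quotient.mk P a = 0 := by
  haveI : P.IsMaximal := hP.2.1
  haveI : P.IsPrime := Ideal.IsMaximal.isPrime ‹_›
  haveI : IsDomain (AlgInt ⧸ P) := Ideal.Quotient.isDomain P
  obtain ⟨x, y, hx, hy, hxy⟩ := exists_congr_conj hP ha
  set q := Ideal.Quotient.mk P with hq
  have h1 : x * y = ((n ^ m : ℕ) : AlgInt) := Subtype.ext (by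
    push_cast
    rw [hx, hy, ← hn, map_pow, mul_pow])
  have h2 : q x * q x = 0 := by
    nth_rw 2 [hxy]
    rw [← map_mul, h1, hq, Ideal.Quotient.eq_zero_iff_mem]
    exact (Blocks.natCast_mem_iff hp.out hP.2.2 _).2 (dvd_pow hpn hm.ne')
  have h3 : a ^ m = x := Subtype.ext (by push_cast; rw [hx])
  have h4 : q a ^ m = 0 := by rw [← map_pow, h3]; exact mul_self_eq_zero.1 h2
  exact (pow_eq_zero_iff hm.ne').1 h4

/-! ## Module data -/

variable {C : Type u} [Group C] {W : Type v} [AddCommGroup W] [Module (ZMod p) W]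

/-- The order of the fixed space. -/
noncomputable def fix (ρ : Representation (ZMod p) C W) (h : C) : ℕ := Nat.card {w // ρ h w = w}

theorem fix_pos [Finite W] (ρ : Representation (ZMod p) C W) (h : C) : 0 < fix ρ h := by
  haveI : Nonempty {w // ρ h w = w} := ⟨⟨0, map_zero _⟩⟩
  exact Nat.card_pos

theorem fix_one [Finite W] (ρ : Representation (ZMod p) C W) : fix ρ 1 = Nat.card W :=
  Nat.card_congr (Equiv.subtypeUnivEquiv fun w => by simp)

/-- What the construction attaches to a module. -/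
def Piece (ρ : Representation (ZMod p) C W) : Prop :=
  ∃ δ : C → ℂ, δ 1 = 1 ∧ (∀ h, δ h * conj (δ h) * (fix ρ h : ℂ) = (Nat.card W : ℂ)) ∧
    (∀ h, ∃ m, 0 < m ∧ δ h ^ m ∈ Zp p) ∧ (∀ h, δ h ∈ Kc (Nat.card C * p)) ∧
    Adm (fun h => (fix ρ h : ℂ) * δ h)

variable [Fintype W] [DecidableEq W]

/-- The permutation matrices of the action. -/
noncomputable def perm (ρ : Representation (ZMod p) C W) : C →* Matrix W W ℂ where
  toFun h := Matrix.of fun w x => if w = ρ h x then 1 else 0
  map_one' := by ext w x; simp [Matrix.one_apply]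
  map_mul' g h := by
    ext w x
    simp only [Matrix.mul_apply, Matrix.of_apply, mul_ite, mul_one, mul_zero,
      Finset.sum_ite_eq', Finset.mem_univ, if_true, map_mul, Module.End.mul_apply]

theorem adm_fix (ρ : Representation (ZMod p) C W) : Adm (fun h => (fix ρ h : ℂ)) := by
  refine Adm.of_rep (perm ρ) 1 isIntegral_one (fun h => Commute.one_left _) fun h => ?_
  rw [one_mul]
  simp only [Matrix.trace, perm, MonoidHom.coe_mk, OneHom.coe_mk, Matrix.diag_apply,
    Matrix.of_apply, Finset.sum_boole]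
  rw [fix, Nat.card_eq_fintype_card, Fintype.card_subtype]
  simp only [eq_comm]

/-- Summing a function constant on the fibres of an additive map. -/
theorem sum_fibres {A : Type*} [AddCommMonoid A] (φ : W →+ W) (f : W → A)
    (hf : ∀ r r', φ r = φ r' → f r = f r') :
    ∑ r, f r = Nat.card {c // φ c = 0} •
      ∑ d ∈ Finset.univ.image φ, f (Function.invFun φ d) := by
  rw [← Finset.sum_fiberwise_of_maps_to (g := φ)
    (fun r _ => Finset.mem_image_of_mem φ (Finset.mem_univ r)), Finset.smul_sum]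
  refine Finset.sum_congr rfl fun d hd => ?_
  obtain ⟨r₀, -, rfl⟩ := Finset.mem_image.1 hd
  have h0 : φ (Function.invFun φ (φ r₀)) = φ r₀ := Function.invFun_eq ⟨r₀, rfl⟩
  rw [Finset.sum_congr rfl fun r hr => hf r _ ((Finset.mem_filter.1 hr).2.trans h0.symm),
    Finset.sum_const]
  congr 1
  rw [Nat.card_eq_fintype_card, Fintype.card_subtype]
  refine Finset.card_equiv (Equiv.subRight r₀) fun r => ?_
  simp [sub_eq_zero]

/-- The additive map `h - 1`. -/
noncomputable def dd (ρ : Representation (ZMod p) C W) (h : C) : W →+ W :=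
  (ρ h - 1 : Module.End (ZMod p) W).toAddMonoidHom

theorem dd_apply (ρ : Representation (ZMod p) C W) (h : C) (r : W) :
    dd ρ h r = ρ h r - r := rfl

theorem dd_ker (ρ : Representation (ZMod p) C W) (h : C) :
    Nat.card {c // dd ρ h c = 0} = fix ρ h :=
  Nat.card_congr (Equiv.subtypeEquivRight fun c => by rw [dd_apply, sub_eq_zero])

theorem fix_eq_of_dd_eq (ρ : Representation (ZMod p) C W) {h : C} {r r' : W}
    (e : dd ρ h r = dd ρ h r') : ρ h (r' - r) = r' - r := by
  rw [dd_apply, dd_apply] at e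
  rw [map_sub, sub_eq_sub_iff_sub_eq_sub, e]

end CfsgLib.CharsMore.Gow
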