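import Cfsg.Agent.Lib.CharsMore.Gow.Base

/-!
# Modules with an invariant symmetric form
-/

set_option autoImplicit false
set_option linter.style.haveILetI false
set_option linter.unusedSectionVars false

namespace CfsgLib.CharsMore.Gow

open Cfsg CfsgLib Matrix
open scoped ComplexConjugate

universe u v

variable {p : ℕ} [hp : Fact p.Prime] {C : Type u} [Group C] [Finite C] {W : Type v} [AddCommGroup W]
  [Module (ZMod p) W] [Fintype W] [DecidableEq W]

theorem fixed_of_double (ρ : Representation (ZMod p) C W) (hC : ¬ p ∣ Nat.card C) (h : C) {d : W}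
    (hd : ρ h (ρ h d - d) = ρ h d - d) : ρ h d = d := by
  set c := ρ h d - d with hc
  have h1 : ∀ k : ℕ, ρ (h ^ k) d = d + k • c := by
    intro k
    induction k with
    | zero => simp
    | succ k ih =>
      rw [pow_succ', map_mul, Module.End.mul_apply, ih, map_add, map_nsmul, hd, succ_nsmul, hc]
      abel
  have h2 := h1 (orderOf h)
  rw [pow_orderOf_eq_one, map_one, Module.End.one_apply, left_eq_add] at h2
  have h3 : ((orderOf h : ZMod p)) • c = 0 := by rw [Nat.cast_smul_eq_nsmul]; exact h2
  rcases smul_eq_zero.1 h3 with h4 | h4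
  · exact absurd ((ZMod.natCast_eq_zero_iff _ _).1 h4) fun h5 =>
      hC (h5.trans (orderOf_dvd_natCard h))
  · exact sub_eq_zero.1 h4

theorem sum_psi_form (S : LinearMap.BilinForm (ZMod p) W)
    (hnd : ∀ x, (∀ y, S x y = 0) → x = 0) (e : W) :
    ∑ w, psi p (S e w) = if e = 0 then (Nat.card W : ℂ) else 0 := by
  classical
  split_ifs with he
  · subst he
    simp [AddChar.map_zero_eq_one, Nat.card_eq_fintype_card]
  · obtain ⟨y, hy⟩ : ∃ y, S e y ≠ 0 := by
      by_contra hcon
      exact he (hnd e fun y => not_not.1 fun h => hcon ⟨y, h⟩)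
    let χ : AddChar W ℂ := (psi p).compAddMonoidHom (S e).toAddMonoidHom
    have hχ : χ ≠ 0 := fun h0 => hy (psi_inj p (by
      rw [AddChar.map_zero_eq_one]
      exact DFunLike.congr_fun h0 y))
    exact AddChar.sum_eq_zero_iff_ne_zero.2 hχ

theorem piece_orth (ρ : Representation (ZMod p) C W) (hC : ¬ p ∣ Nat.card C)
    (S : LinearMap.BilinForm (ZMod p) W) (hS : ∀ x y, S x y = S y x)
    (hinv : ∀ h x y, S (ρ h x) (ρ h y) = S x y) (hnd : ∀ x, (∀ y, S x y = 0) → x = 0) :
    Piece ρ := by
  classical
  let Q : C → W → ZMod p := fun h u => S u (ρ h u - u)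
  let τ : C → ℂ := fun h => ∑ u, psi p (Q h u)
  let δ : C → ℂ := fun h => ∑ d ∈ Finset.univ.image (dd ρ h),
    psi p (Q h (Function.invFun (dd ρ h) d))
  have hQ : ∀ h r r', dd ρ h r = dd ρ h r' → Q h r = Q h r' := by
    intro h r r' e
    have hc := fix_eq_of_dd_eq ρ e
    rw [dd_apply, dd_apply] at e
    simp only [Q]
    rw [← e]
    have h1 : S (r' - r) (ρ h r) = S (r' - r) r := by
      conv_lhs => rw [← hc]
      rw [hinv]
    have h2 : S (r' - r) (ρ h r - r) = 0 := by rw [map_sub (S (r' - r)), h1, sub_self]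
    rw [map_sub S, LinearMap.sub_apply, sub_eq_zero] at h2
    exact h2.symm
  have hτ : ∀ h, τ h = (fix ρ h : ℂ) * δ h := by
    intro h
    simp only [τ, δ]
    rw [sum_fibres (dd ρ h) (fun u => psi p (Q h u)) (fun r r' e => by rw [hQ h r r' e]),
      dd_ker, nsmul_eq_mul]
  have hfix : ∀ h, (fix ρ h : ℂ) ≠ 0 := fun h => Nat.cast_ne_zero.2 (fix_pos ρ h).ne'
  have hδZ : ∀ h, δ h ∈ Zp p := fun h => sum_mem fun d _ => psi_mem_Zp p _
  refine ⟨δ, ?_, fun h => ?_, fun h => ⟨1, one_pos, by rw [pow_one]; exact hδZ h⟩, fun h => ?_, ?_⟩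
  · apply mul_left_cancel₀ (hfix 1)
    rw [← hτ, mul_one, fix_one]
    simp [τ, Q, AddChar.map_zero_eq_one, Nat.card_eq_fintype_card]
  · apply mul_left_cancel₀ (hfix h)
    have hconj : conj (fix ρ h : ℂ) = fix ρ h := Complex.conj_natCast _
    calc (fix ρ h : ℂ) * (δ h * conj (δ h) * fix ρ h)
        = τ h * conj (τ h) := by rw [hτ, map_mul, hconj]; ring
      _ = ∑ w, ∑ d, psi p (Q h d) * psi p (S (ρ h d - d + (ρ h⁻¹ d - d)) w) := by
          simp only [τ, map_sum, psi_conj, Finset.sum_mul, Finset.mul_sum, ← AddChar.map_add_eq_mul]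
          refine Finset.sum_congr rfl fun w _ => ?_
          rw [← Equiv.sum_comp (Equiv.addRight w)]
          refine Finset.sum_congr rfl fun d _ => congrArg _ ?_
          have h1 : S d (ρ h w) = S (ρ h⁻¹ d) w := by
            conv_lhs => rw [show d = ρ h (ρ h⁻¹ d) by
              rw [← Module.End.mul_apply, ← map_mul, mul_inv_cancel, map_one, Module.End.one_apply],
              hinv]
          simp only [Q, Equiv.coe_addRight, map_add, map_sub, LinearMap.add_apply,
            LinearMap.sub_apply, h1]
          rw [hS w (ρ h d), hS w d]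
          ring
      _ = (fix ρ h : ℂ) * Nat.card W := by
          rw [Finset.sum_comm]
          simp only [← Finset.mul_sum, sum_psi_form S hnd]
          have hiff : ∀ d, ρ h d - d + (ρ h⁻¹ d - d) = 0 ↔ ρ h d = d := by
            intro d
            refine ⟨fun e => fixed_of_double ρ hC h ?_, fun e => ?_⟩
            · have e1 := congrArg (ρ h) e
              rw [map_add, map_zero, map_sub (ρ h) (ρ h⁻¹ d), ← Module.End.mul_apply (ρ h) (ρ h⁻¹),
                ← map_mul, mul_inv_cancel, map_one, Module.End.one_apply] at e1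
              rw [eq_neg_of_add_eq_zero_left e1, neg_sub]
            · have e1 : ρ h⁻¹ d = d := by
                nth_rw 1 [← e]
                rw [← Module.End.mul_apply, ← map_mul, inv_mul_cancel, map_one, Module.End.one_apply]
              rw [e, e1, sub_self, add_zero]
          simp only [hiff, mul_ite, mul_zero]
          rw [← Finset.sum_filter, Finset.sum_congr rfl (g := fun _ => (Nat.card W : ℂ))
            fun d hd => by
              simp [Q, (Finset.mem_filter.1 hd).2, AddChar.map_zero_eq_one],
            Finset.sum_const, nsmul_eq_mul, fix, Nat.card_eq_fintype_card (α := {w // ρ h w = w}),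
            Fintype.card_subtype]
  · have hle : Zp p ≤ ((Kc (Nat.card C * p)).toSubalgebra.restrictScalars ℤ) :=
      Algebra.adjoin_le fun z hz => by
        obtain ⟨a, rfl⟩ := hz
        exact mem_Kc (by rw [mul_comm, pow_mul, psi_pow, one_pow])
    exact hle (hδZ h)
  · let F : Matrix W W ℂ := Matrix.of fun u w => psi p (S u w - S w w)
    refine Adm.of_rep (perm ρ) F (isIntegral_of_entries fun i j =>
      isIntegral_of_mem_Zp p (psi_mem_Zp p _)) (fun h => ?_) fun h => ?_
    · ext w x
      simp only [F, perm, MonoidHom.coe_mk, OneHom.coe_mk, Matrix.mul_apply, Matrix.of_apply,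
        mul_ite, mul_one, mul_zero, ite_mul, one_mul, zero_mul, Finset.sum_ite_eq', Finset.mem_univ,
        if_true]
      rw [Finset.sum_eq_single (ρ h⁻¹ w)]
      · have e : ρ h (ρ h⁻¹ w) = w := by
          rw [← Module.End.mul_apply, ← map_mul, mul_inv_cancel, map_one, Module.End.one_apply]
        rw [if_pos e.symm]
        congr 1
        conv_lhs => rw [show w = ρ h (ρ h⁻¹ w) from e.symm, hinv, hinv]
      · intro y _ hy
        rw [if_neg]
        intro e
        exact hy (by rw [e, ← Module.End.mul_apply, ← map_mul, inv_mul_cancel, map_one,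
          Module.End.one_apply])
      · exact fun h0 => absurd (Finset.mem_univ _) h0
    · rw [← hτ]
      simp only [τ, F, perm, MonoidHom.coe_mk, OneHom.coe_mk, Matrix.trace, Matrix.diag_apply,
        Matrix.mul_apply, Matrix.of_apply, mul_ite, mul_one, mul_zero]
      simp only [Finset.sum_ite_eq', Finset.mem_univ, if_true]
      refine Finset.sum_congr rfl fun u _ => congrArg _ ?_
      simp only [Q, map_sub]
      rw [hinv]

end CfsgLib.CharsMore.Gow
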