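import Cfsg.Agent.Lib.CharsMore.Gow.SympOps

/-!
# Modules with an invariant alternating form
-/

set_option autoImplicit false
set_option linter.style.haveILetI false
set_option linter.unusedSectionVars false

namespace CfsgLib.CharsMore.Gow

open Cfsg CfsgLib Matrix
open scoped ComplexConjugate

universe u v

variable {p : ℕ} [hp : Fact p.Prime] {C : Type u} [Group C] [Finite C] {W : Type v} [AddCommGroup W]
  [Module (ZMod p) W] [Fintype W] [DecidableEq W]

theorem exists_half (ρ : Representation (ZMod p) C W) (hC : ¬ p ∣ Nat.card C)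
    (A : LinearMap.BilinForm (ZMod p) W) (hA : ∀ x, A x x = 0)
    (hinv : ∀ h x y, A (ρ h x) (ρ h y) = A x y) :
    ∃ B : LinearMap.BilinForm (ZMod p) W, (∀ h x y, B (ρ h x) (ρ h y) = B x y) ∧
      ∀ x y, B y x - B x y = A x y := by
  classical
  haveI := Fintype.ofFinite C
  let b := Module.finBasis (ZMod p) W
  let B0 : LinearMap.BilinForm (ZMod p) W :=
    b.constr (ZMod p) fun i => b.constr (ZMod p) fun j => if i < j then -A (b i) (b j) else 0
  have hskew : ∀ x y, A y x = -A x y := fun x y => by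
    have := hA (x + y)
    simp only [map_add, LinearMap.add_apply, hA, zero_add, add_zero] at this
    exact eq_neg_of_add_eq_zero_left this
  have hB0 : B0.flip - B0 = A := by
    refine LinearMap.ext_basis b b fun i j => ?_
    simp only [LinearMap.sub_apply, LinearMap.BilinForm.flip_apply, B0,
      Module.Basis.constr_basis]
    rcases lt_trichotomy i j with h | rfl | h
    · rw [if_neg h.not_gt, if_pos h, zero_sub, neg_neg]
    · rw [if_neg (lt_irrefl _), sub_zero, hA]
    · rw [if_pos h, if_neg h.not_gt, sub_zero, hskew (b j) (b i)]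
  have hne : (Fintype.card C : ZMod p) ≠ 0 := fun h => hC (by
    rw [Nat.card_eq_fintype_card]; exact (ZMod.natCast_eq_zero_iff _ _).1 h)
  refine ⟨(Fintype.card C : ZMod p)⁻¹ • ∑ g : C, B0.compl₁₂ (ρ g) (ρ g), fun h x y => ?_,
    fun x y => ?_⟩
  · simp only [LinearMap.smul_apply, LinearMap.sum_apply, LinearMap.compl₁₂_apply]
    congr 1
    conv_rhs => rw [← Equiv.sum_comp (Equiv.mulRight h)]
    refine Finset.sum_congr rfl fun g _ => ?_
    rw [Equiv.coe_mulRight, map_mul, Module.End.mul_apply, Module.End.mul_apply]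
  · simp only [LinearMap.smul_apply, LinearMap.sum_apply, LinearMap.compl₁₂_apply, ← smul_sub,
      ← Finset.sum_sub_distrib]
    have : ∀ g : C, B0 (ρ g y) (ρ g x) - B0 (ρ g x) (ρ g y) = A x y := fun g => by
      rw [← hinv g x y, ← hB0]
      simp only [LinearMap.sub_apply, LinearMap.BilinForm.flip_apply]
    rw [Finset.sum_congr rfl fun g _ => this g, Finset.sum_const, Finset.card_univ,
      nsmul_eq_mul, smul_eq_mul, ← mul_assoc, inv_mul_cancel₀ hne, one_mul]

set_option maxHeartbeats 1000000 in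
theorem piece_symp (ρ : Representation (ZMod p) C W) (hC : ¬ p ∣ Nat.card C)
    (A : LinearMap.BilinForm (ZMod p) W) (hA : ∀ x, A x x = 0)
    (hAinv : ∀ h x y, A (ρ h x) (ρ h y) = A x y) (hnd : ∀ x, (∀ y, A x y = 0) → x = 0) :
    Piece ρ := by
  classical
  haveI := Fintype.ofFinite C
  obtain ⟨B, hB, hBA⟩ := exists_half ρ hC A hA hAinv
  let E : C → Matrix W W ℂ := op B ρ
  let n : C → ℕ := fun h => (Finset.univ.image (dd ρ h)).card
  have hn : ∀ h, (n h : ℂ) ≠ 0 := fun h => Nat.cast_ne_zero.2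
    (Finset.card_pos.2 ⟨0, Finset.mem_image.2 ⟨0, Finset.mem_univ _, map_zero _⟩⟩).ne'
  -- the span of translations has trivial centre
  have hscal : ∀ M ∈ sp B, (∀ x, tr' B x * M = M * tr' B x) → M = M 0 0 • (1 : Matrix W W ℂ) :=
    fun M hM hc => eq_scalar B (A := fun u x => A u x) hBA hnd hM hc
  have hswap : ∀ (h : C) (M : Matrix W W ℂ), (∀ x, tr' B (ρ h x) * M = M * tr' B x) →
      ∀ x, tr' B x * Mᴴ = Mᴴ * tr' B (ρ h x) := by
    intro h M hM x
    have h1 := congrArg Matrix.conjTranspose (hM x)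
    rw [Matrix.conjTranspose_mul, Matrix.conjTranspose_mul] at h1
    have h2 : (tr' B (ρ h x))ᴴ * tr' B (ρ h x) = 1 :=
      mul_eq_one_comm.1 (tr'_mul_conjTranspose B _)
    calc tr' B x * Mᴴ = tr' B x * (Mᴴ * (tr' B (ρ h x))ᴴ) * tr' B (ρ h x) := by
          rw [mul_assoc, mul_assoc, h2, mul_one]
      _ = Mᴴ * tr' B (ρ h x) := by rw [h1, ← mul_assoc, tr'_mul_conjTranspose, one_mul]
  have hbij : ∀ (h : C) y, ∃ x, ρ h x = y := fun h y => ⟨ρ h⁻¹ y, by
    rw [← Module.End.mul_apply, ← map_mul, mul_inv_cancel, map_one, Module.End.one_apply]⟩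
  have hcomp : ∀ (h : C) (M M' : Matrix W W ℂ), M ∈ sp B → M' ∈ sp B →
      (∀ x, tr' B (ρ h x) * M = M * tr' B x) → (∀ x, tr' B (ρ h x) * M' = M' * tr' B x) →
      M * M'ᴴ = (M * M'ᴴ) 0 0 • (1 : Matrix W W ℂ) := by
    intro h M M' hM hM' hi hi'
    refine hscal _ (sp_mul B hM (sp_conjTranspose B hM')) fun y => ?_
    obtain ⟨x, rfl⟩ := hbij h y
    rw [← mul_assoc, hi x, mul_assoc, hswap h M' hi' x, ← mul_assoc]
  have hint : ∀ h x, tr' B (ρ h x) * E h = E h * tr' B x := op_intertwine B ρ hB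
  have hmem : ∀ h, E h ∈ sp B := op_mem B ρ hB
  have hEE : ∀ h, E h * (E h)ᴴ = (n h : ℂ) • (1 : Matrix W W ℂ) := fun h => by
    have := hcomp h _ _ (hmem h) (hmem h) (hint h) (hint h)
    rwa [show (E h * (E h)ᴴ) 0 0 = (n h : ℂ) from op_normSq_row B ρ hB h] at this
  have hEE' : ∀ h, (E h)ᴴ * E h = (n h : ℂ) • (1 : Matrix W W ℂ) := fun h => by
    have h1 : E h * ((n h : ℂ)⁻¹ • (E h)ᴴ) = 1 := by
      rw [mul_smul_comm, hEE, smul_smul, inv_mul_cancel₀ (hn h), one_smul]
    have h2 := mul_eq_one_comm.1 h1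
    rw [smul_mul_assoc] at h2
    rw [← h2, smul_smul, mul_inv_cancel₀ (hn h), one_smul]
  have hdet : ∀ h, (E h).det ≠ 0 := fun h h0 => by
    have := congrArg Matrix.det (hEE h)
    rw [Matrix.det_mul, h0, zero_mul, Matrix.det_smul, Matrix.det_one, mul_one] at this
    exact hn h (pow_eq_zero_iff Fintype.card_ne_zero |>.1 this.symm)
  have hE0 : ∀ h, E h ≠ 0 := fun h h0 => hdet h (by
    rw [h0, Matrix.det_zero])
  -- the cocycle
  let c : C → C → ℂ := fun g h => (E g * E h * (E (g * h))ᴴ) 0 0 / n (g * h)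
  have hc : ∀ g h, E g * E h = c g h • E (g * h) := by
    intro g h
    have h1 := hcomp (g * h) _ _ (sp_mul B (hmem g) (hmem h)) (hmem (g * h)) (fun x => by
      rw [← mul_assoc, map_mul, Module.End.mul_apply, hint g, mul_assoc, hint h, ← mul_assoc])
      (hint (g * h))
    have h2 := congrArg (· * E (g * h)) h1
    rw [mul_assoc, hEE', mul_smul_comm, mul_one, smul_mul_assoc, one_mul] at h2
    simp only [c]
    rw [div_eq_inv_mul, ← smul_smul, ← h2, smul_smul, inv_mul_cancel₀ (hn _), one_smul]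
  have hc0 : ∀ g h, c g h ≠ 0 := fun g h h0 => by
    have := congrArg Matrix.det (hc g h)
    rw [h0, zero_smul, Matrix.det_zero, Matrix.det_mul] at this
    exact mul_ne_zero (hdet g) (hdet h) this
  let d : C → ℂ := fun g => (E g).det
  let P : C → ℂ := fun g => ∏ k, c g k
  have hP0 : ∀ g, P g ≠ 0 := fun g => Finset.prod_ne_zero_iff.2 fun k _ => hc0 g k
  have hcN : ∀ g h, c g h ^ Fintype.card W = d g * d h / d (g * h) := fun g h => by
    have := congrArg Matrix.det (hc g h)
    rw [Matrix.det_mul, Matrix.det_smul] at this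
    rw [eq_div_iff (hdet _)]
    exact this.symm
  have hcm : ∀ g h, c g h ^ Fintype.card C = P g * P h / P (g * h) := by
    intro g h
    have hass : ∀ k, c g h * c (g * h) k = c h k * c g (h * k) := fun k => by
      have h1 : (c g h * c (g * h) k) • E (g * h * k) = (c h k * c g (h * k)) • E (g * h * k) := by
        rw [← smul_smul, ← smul_smul, ← hc, ← smul_mul_assoc, ← hc, mul_assoc g h k, ← hc,
          ← mul_smul_comm, ← hc, mul_assoc]
      exact smul_left_injective ℂ (hE0 _) h1
    have h1 := Finset.prod_congr rfl fun k (_ : k ∈ Finset.univ) => hass k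
    rw [Finset.prod_mul_distrib, Finset.prod_mul_distrib, Finset.prod_const, Finset.card_univ] at h1
    have h2 : ∏ k, c g (h * k) = P g := Equiv.prod_comp (Equiv.mulLeft h) (fun k => c g k)
    rw [eq_div_iff (hP0 _)]
    rw [h2] at h1
    rw [h1, mul_comm]
  have hcop : Nat.Coprime (Fintype.card W) (Fintype.card C) := by
    rw [Module.card_eq_pow_finrank (K := ZMod p) (V := W), ZMod.card]
    exact (hp.out.coprime_iff_not_dvd.2 (by rwa [← Nat.card_eq_fintype_card])).pow_left _
  set a := Nat.gcdA (Fintype.card W) (Fintype.card C) with ha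
  set b := Nat.gcdB (Fintype.card W) (Fintype.card C) with hb
  have hab : (Fintype.card W : ℤ) * a + (Fintype.card C : ℤ) * b = 1 := by
    rw [ha, hb, ← Nat.gcd_eq_gcd_ab, hcop.gcd_eq_one, Nat.cast_one]
  let μ : C → ℂ := fun g => d g ^ a * P g ^ b
  have hμ0 : ∀ g, μ g ≠ 0 := fun g =>
    mul_ne_zero (zpow_ne_zero _ (hdet g)) (zpow_ne_zero _ (hP0 g))
  have hμ : ∀ g h, c g h = μ g * μ h / μ (g * h) := fun g h => by
    conv_lhs => rw [← zpow_one (c g h), ← hab, zpow_add₀ (hc0 g h), _root_.zpow_mul, _root_.zpow_mul,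
      zpow_natCast, zpow_natCast, hcN, hcm]
    simp only [μ, div_zpow, mul_zpow]
    ring
  let lam : C → ℂ := fun g => (μ g)⁻¹
  have hlam0 : ∀ g, lam g ≠ 0 := fun g => inv_ne_zero (hμ0 g)
  have hmul : ∀ g h, lam (g * h) • E (g * h) = (lam g • E g) * (lam h • E h) := fun g h => by
    rw [smul_mul_smul_comm, hc, smul_smul, hμ]
    congr 1
    simp only [lam]
    have := hμ0 g
    have := hμ0 h
    field_simp
  have hone : lam 1 • E 1 = 1 := by
    have h1 := hmul 1 1
    rw [one_mul] at h1
    have h2 : IsUnit (lam 1 • E 1) := (Matrix.isUnit_iff_isUnit_det _).2 (isUnit_iff_ne_zero.2 (by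
      rw [Matrix.det_smul]; exact mul_ne_zero (pow_ne_zero _ (hlam0 1)) (hdet 1)))
    exact h2.mul_left_cancel (h1.symm.trans (mul_one _).symm)
  let D : C →* Matrix W W ℂ :=
    { toFun := fun g => lam g • E g
      map_one' := hone
      map_mul' := hmul }
  have hDm : ∀ h, (lam h • E h) ^ orderOf h = 1 := fun h => by
    show (D h) ^ orderOf h = 1
    rw [← map_pow, pow_orderOf_eq_one, map_one]
  -- the modulus
  have hnorm : ∀ h, lam h * conj (lam h) * (n h : ℂ) = 1 := by
    intro h
    set s : ℝ := Complex.normSq (lam h) * n h with hs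
    have hs' : lam h * conj (lam h) * (n h : ℂ) = (s : ℂ) := by
      rw [Complex.mul_conj, hs]; push_cast; rfl
    have h1 : (lam h • E h) * (lam h • E h)ᴴ = (s : ℂ) • (1 : Matrix W W ℂ) := by
      rw [Matrix.conjTranspose_smul, smul_mul_smul_comm, hEE, smul_smul, RCLike.star_def, hs']
    have h2 : Commute (lam h • E h) (lam h • E h)ᴴ := by
      rw [Commute, SemiconjBy, h1, Matrix.conjTranspose_smul, smul_mul_smul_comm, hEE', smul_smul,
        RCLike.star_def, mul_comm (conj (lam h)), hs']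
    have h3 := congrArg (· ^ orderOf h) h1
    rw [h2.mul_pow, ← Matrix.conjTranspose_pow, hDm, Matrix.conjTranspose_one, one_mul, smul_pow,
      one_pow] at h3
    have h4 : (s : ℂ) ^ orderOf h = 1 := by
      have := congrFun (congrFun h3 0) 0
      simpa using this.symm
    have h5 : s ^ orderOf h = 1 := by exact_mod_cast h4
    have h6 := (pow_eq_one_iff_of_nonneg (mul_nonneg (Complex.normSq_nonneg _) (Nat.cast_nonneg _))
      (orderOf_pos h).ne').1 h5
    rw [hs', hs, h6, Complex.ofReal_one]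
  have hcard : ∀ h, (n h : ℂ) * (fix ρ h : ℂ) = (Nat.card W : ℂ) := fun h => by
    rw [← Nat.cast_mul, card_image_mul_fix B ρ hB]
  have htr : ∀ h, (fix ρ h : ℂ) * (lam h * n h) = (D h).trace := fun h => by
    show _ = (lam h • E h).trace
    rw [Matrix.trace_smul, trace_op B ρ hB, smul_eq_mul, ← hcard h]
    ring
  refine ⟨fun h => lam h * n h, ?_, fun h => ?_, fun h => ⟨orderOf h, orderOf_pos h, ?_⟩,
    fun h => ?_, ?_⟩
  · have h1 := htr 1
    rw [map_one, Matrix.trace_one, fix_one, ← Nat.card_eq_fintype_card] at h1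
    exact mul_left_cancel₀ (Nat.cast_ne_zero.2 Nat.card_pos.ne') (h1.trans (mul_one _).symm)
  · show lam h * n h * conj (lam h * n h) * (fix ρ h : ℂ) = _
    rw [map_mul, Complex.conj_natCast, ← hcard h]
    linear_combination (n h : ℂ) * (fix ρ h : ℂ) * hnorm h
  · -- a power lies in the ring of roots of unity
    have hent : ∀ k : ℕ, ∀ w x, (E h ^ k) w x ∈ Zp p := by
      intro k
      induction k with
      | zero => intro w x; rw [pow_zero, Matrix.one_apply]; split_ifs <;> simp
      | succ k ih =>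
        intro w x
        rw [pow_succ, Matrix.mul_apply]
        exact sum_mem fun y _ => mul_mem (ih w y) (op_entry_mem B ρ hB h y x)
    have h1 := congrFun (congrFun (hDm h) 0) 0
    rw [smul_pow, Matrix.smul_apply, smul_eq_mul, Matrix.one_apply_eq] at h1
    have h2 : conj (lam h) * (lam h * n h) = 1 := by rw [← hnorm h]; ring
    have h3 : (lam h * n h) ^ orderOf h = conj ((E h ^ orderOf h) 0 0) := by
      have e1 := congrArg conj h1
      rw [map_mul, map_one, map_pow] at e1
      calc (lam h * n h) ^ orderOf h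
          = conj (lam h) ^ orderOf h * conj ((E h ^ orderOf h) 0 0) *
              (lam h * n h) ^ orderOf h := by rw [e1, one_mul]
        _ = (conj (lam h) * (lam h * n h)) ^ orderOf h * conj ((E h ^ orderOf h) 0 0) := by
              rw [mul_pow]; ring
        _ = _ := by rw [h2, one_pow, one_mul]
    rw [h3]
    exact conj_mem_Zp p (hent _ 0 0)
  · have h1 : lam h * n h = (D h).trace / (fix ρ h : ℂ) := by
      rw [← htr, mul_div_cancel_left₀ _ (Nat.cast_ne_zero.2 (fix_pos ρ h).ne')]
    show lam h * n h ∈ _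
    rw [h1]
    exact div_mem (trace_mem_Kc D ((orderOf_dvd_natCard h).trans (dvd_mul_right _ _)))
      (natCast_mem _ _)
  · exact Adm.of_rep D 1 isIntegral_one (fun h => Commute.one_left _) fun h => by
      rw [one_mul, htr]

end CfsgLib.CharsMore.Gow
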