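import Cfsg.Agent.Lib.CharsMore.Gow.Orth
import Cfsg.Agent.Lib.CharsMore.Gow.Symp
import Cfsg.Agent.Lib.CharApps.SelfDualSplit

/-!
# Modules with any invariant nondegenerate form
-/

set_option autoImplicit false
set_option linter.style.haveILetI false
set_option linter.unusedSectionVars false

namespace CfsgLib.CharsMore.Gow

open Cfsg CfsgLib
open scoped ComplexConjugate
open LinearMap (BilinForm)

universe u v w₁ w₂

variable {p : ℕ} [hp : Fact p.Prime] {C : Type u} [Group C] [Finite C]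

theorem Piece.prod {W : Type v} [AddCommGroup W] [Module (ZMod p) W] {W₁ : Type w₁}
    [AddCommGroup W₁] [Module (ZMod p) W₁] {W₂ : Type w₂} [AddCommGroup W₂] [Module (ZMod p) W₂]
    {ρ : Representation (ZMod p) C W} {ρ₁ : Representation (ZMod p) C W₁}
    {ρ₂ : Representation (ZMod p) C W₂} (e : W₁ × W₂ ≃ W)
    (he : ∀ h x, ρ h (e x) = e (ρ₁ h x.1, ρ₂ h x.2)) (h1 : Piece ρ₁) (h2 : Piece ρ₂) :
    Piece ρ := by
  obtain ⟨d₁, a1, a2, a3, a4, a5⟩ := h1
  obtain ⟨d₂, b1, b2, b3, b4, b5⟩ := h2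
  have hfix : ∀ h, fix ρ h = fix ρ₁ h * fix ρ₂ h := fun h => by
    rw [fix, fix, fix, ← Nat.card_prod]
    refine (Nat.card_congr ?_).symm
    exact Equiv.subtypeProdEquivProd.symm.trans (Equiv.subtypeEquiv e fun x => by
      rw [he, e.injective.eq_iff, Prod.ext_iff])
  have hcard : Nat.card W = Nat.card W₁ * Nat.card W₂ := by
    rw [← Nat.card_prod, Nat.card_congr e]
  refine ⟨fun h => d₁ h * d₂ h, by simp [a1, b1], fun h => ?_, fun h => ?_,
    fun h => mul_mem (a4 h) (b4 h), ?_⟩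
  · dsimp only
    rw [map_mul, hfix, hcard, Nat.cast_mul, Nat.cast_mul, ← a2 h, ← b2 h]
    ring
  · obtain ⟨m, hm, hm'⟩ := a3 h
    obtain ⟨n, hn, hn'⟩ := b3 h
    refine ⟨m * n, Nat.mul_pos hm hn, ?_⟩
    rw [mul_pow, pow_mul, mul_comm m n, pow_mul]
    exact mul_mem (pow_mem hm' n) (pow_mem hn' m)
  · convert a5.mul b5 using 1
    funext h
    rw [hfix, Nat.cast_mul]
    ring

/-- The construction applies to all self-dual modules. -/
theorem piece_of_form {W : Type v} [AddCommGroup W] [Module (ZMod p) W] [Finite W]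
    (ρ : Representation (ZMod p) C W) (hC : ¬ p ∣ Nat.card C) (B : BilinForm (ZMod p) W)
    (hB : ∀ h x y, B (ρ h x) (ρ h y) = B x y) (hBn : ∀ x, (∀ y, B x y = 0) → x = 0) :
    Piece ρ := by
  classical
  haveI := Fintype.ofFinite W
  have hn : (Nat.card C : ZMod p) ≠ 0 := fun h => hC ((ZMod.natCast_eq_zero_iff _ _).1 h)
  obtain ⟨U, Z, -, -, hUZ, hd, ⟨hU, A, hA0, hA, hAn⟩, ⟨hZ, ⟨S, hS0, hS, hSn⟩, -⟩⟩ :=
    CharApps.SelfDualSplit.exists_split (B := B) (ρ := ρ) hn (X := ⊤)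
      (fun g x _ => Submodule.mem_top) (fun g x _ y _ => hB g x y)
      (fun x _ h => hBn x fun y => h y Submodule.mem_top)
  let sub : ∀ T : Submodule (ZMod p) W, (∀ g : C, ∀ x ∈ T, ρ g x ∈ T) →
      Representation (ZMod p) C T := fun T hT =>
    { toFun := fun g => (ρ g).restrict (hT g)
      map_one' := LinearMap.ext fun x => Subtype.ext (by simp [LinearMap.restrict_apply])
      map_mul' := fun g h => LinearMap.ext fun x => Subtype.ext (by
        simp [LinearMap.restrict_apply]) }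
  let pr := Submodule.prodEquivOfIsCompl U Z ⟨hd, codisjoint_iff.2 hUZ⟩
  refine Piece.prod (ρ₁ := sub U hU) (ρ₂ := sub Z hZ) pr.toEquiv (fun h x => ?_)
    (piece_symp _ hC (A.compl₁₂ U.subtype U.subtype) (fun x => hA0 _)
      (fun h x y => hA h x x.2 y y.2)
      (fun x hx => Subtype.ext (hAn x x.2 fun y hy => hx ⟨y, hy⟩)))
    (piece_orth _ hC (S.compl₁₂ Z.subtype Z.subtype) (fun x y => hS0 _ _)
      (fun h x y => hS h x x.2 y y.2)
      (fun x hx => Subtype.ext (hSn x x.2 fun y hy => hx ⟨y, hy⟩)))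
  simp [pr, sub, LinearMap.restrict_apply, map_add]

end CfsgLib.CharsMore.Gow
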