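import Cfsg.Agent.Lib.CharsMore.Gow.Base

/-!
# Twisted translations and the operators intertwining them
-/

set_option autoImplicit false
set_option linter.style.haveILetI false
set_option linter.unusedSectionVars false

namespace CfsgLib.CharsMore.Gow

open Cfsg CfsgLib Matrix
open scoped ComplexConjugate

universe u v

variable {p : ℕ} [hp : Fact p.Prime] {W : Type v} [AddCommGroup W]
  [Module (ZMod p) W] [Fintype W] [DecidableEq W] (B : LinearMap.BilinForm (ZMod p) W)

/-- Twisted translation. -/
noncomputable def tr' (u : W) : Matrix W W ℂ :=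
  Matrix.of fun w x => if x = w - u then psi p (B u x) else 0

theorem tr'_apply (u w x : W) : tr' B u w x = if x = w - u then psi p (B u x) else 0 := rfl

theorem tr'_zero : tr' B 0 = 1 := by
  ext w x
  simp [tr'_apply, Matrix.one_apply, eq_comm, AddChar.map_zero_eq_one]

theorem tr'_mul (u x : W) : tr' B u * tr' B x = psi p (B u x) • tr' B (u + x) := by
  ext w y
  simp only [Matrix.mul_apply, tr'_apply, ite_mul, zero_mul, Matrix.smul_apply, smul_eq_mul]
  rw [Finset.sum_ite_eq', if_pos (Finset.mem_univ _)]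
  simp only [mul_ite, mul_zero, sub_sub]
  split_ifs with h
  · rw [← AddChar.map_add_eq_mul, ← AddChar.map_add_eq_mul]
    congr 1
    have e : w - u = y + x := by rw [h]; abel
    rw [e, map_add (B u), map_add B, LinearMap.add_apply]
    abel
  · rfl

theorem tr'_conjTranspose (u : W) : (tr' B u)ᴴ = psi p (B u u) • tr' B (-u) := by
  ext w x
  simp only [Matrix.conjTranspose_apply, tr'_apply, Matrix.smul_apply, smul_eq_mul, mul_ite,
    mul_zero, sub_neg_eq_add]
  by_cases h : w = x - u
  · rw [if_pos h, if_pos (by rw [h]; abel)]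
    subst h
    rw [← AddChar.map_add_eq_mul, RCLike.star_def, psi_conj]
    congr 1
    rw [map_sub, map_neg, LinearMap.neg_apply]
    abel
  · rw [if_neg h, if_neg (fun e => h (by rw [e]; abel))]
    exact star_zero _

theorem tr'_mul_conjTranspose (u : W) : tr' B u * (tr' B u)ᴴ = 1 := by
  rw [tr'_conjTranspose, mul_smul_comm, tr'_mul, smul_smul, ← AddChar.map_add_eq_mul,
    map_neg (B u), add_neg_cancel, AddChar.map_zero_eq_one, one_smul, add_neg_cancel, tr'_zero]

/-- The span of the twisted translations. -/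
noncomputable def sp : Submodule ℂ (Matrix W W ℂ) := Submodule.span ℂ (Set.range (tr' B))

theorem tr'_mem (u : W) : tr' B u ∈ sp B := Submodule.subset_span ⟨u, rfl⟩

theorem sp_mul {M N : Matrix W W ℂ} (hM : M ∈ sp B) (hN : N ∈ sp B) : M * N ∈ sp B := by
  induction hM using Submodule.span_induction with
  | mem x hx =>
    obtain ⟨u, rfl⟩ := hx
    induction hN using Submodule.span_induction with
    | mem y hy => obtain ⟨y, rfl⟩ := hy; rw [tr'_mul]; exact (sp B).smul_mem _ (tr'_mem B _)
    | zero => rw [mul_zero]; exact zero_mem _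
    | add y z _ _ hy hz => rw [mul_add]; exact add_mem hy hz
    | smul c y _ hy => rw [mul_smul_comm]; exact (sp B).smul_mem _ hy
  | zero => rw [zero_mul]; exact zero_mem _
  | add y z _ _ hy hz => rw [add_mul]; exact add_mem hy hz
  | smul c y _ hy => rw [smul_mul_assoc]; exact (sp B).smul_mem _ hy

theorem sp_conjTranspose {M : Matrix W W ℂ} (hM : M ∈ sp B) : Mᴴ ∈ sp B := by
  induction hM using Submodule.span_induction with
  | mem x hx =>
    obtain ⟨u, rfl⟩ := hx
    rw [tr'_conjTranspose]
    exact (sp B).smul_mem _ (tr'_mem B _)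
  | zero => rw [Matrix.conjTranspose_zero]; exact zero_mem _
  | add y z _ _ hy hz => rw [Matrix.conjTranspose_add]; exact add_mem hy hz
  | smul c y _ hy => rw [Matrix.conjTranspose_smul]; exact (sp B).smul_mem _ hy

theorem sum_tr'_entry (c : W → ℂ) (x w : W) :
    (∑ u, c u • tr' B (u + x)) (w + x) 0 = c w * psi p (B (w + x) 0) := by
  simp only [Matrix.sum_apply, Matrix.smul_apply, tr'_apply, smul_eq_mul, mul_ite, mul_zero]
  rw [Finset.sum_eq_single w]
  · simp
  · intro u _ hu
    rw [if_neg fun e => hu ?_]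
    have : w + x = u + x := sub_eq_zero.1 e.symm
    exact (add_right_cancel this).symm
  · exact fun h => absurd (Finset.mem_univ _) h

/-- Within the span, only scalars centralize. -/
theorem eq_scalar {A : W → W → ZMod p} (hA : ∀ u x, B x u - B u x = A u x)
    (hnd : ∀ u, (∀ x, A u x = 0) → u = 0) {M : Matrix W W ℂ} (hM : M ∈ sp B)
    (hcomm : ∀ x, tr' B x * M = M * tr' B x) : M = M 0 0 • (1 : Matrix W W ℂ) := by
  obtain ⟨c, rfl⟩ := Submodule.mem_span_range_iff_exists_fun ℂ |>.1 hM
  have h0 : ∀ u, u ≠ 0 → c u = 0 := by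
    intro u hu
    obtain ⟨x, hx⟩ : ∃ x, A u x ≠ 0 := by
      by_contra hcon
      exact hu (hnd u fun x => not_not.1 fun h => hcon ⟨x, h⟩)
    have h1 := hcomm x
    simp only [Finset.mul_sum, Finset.sum_mul, mul_smul_comm, smul_mul_assoc, tr'_mul, smul_smul,
      add_comm x] at h1
    have h2 := congrFun (congrFun h1 (u + x)) 0
    rw [sum_tr'_entry B (fun u => c u * psi p (B x u)) x u,
      sum_tr'_entry B (fun u => c u * psi p (B u x)) x u, map_zero (B (u + x)),
      AddChar.map_zero_eq_one, mul_one, mul_one] at h2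
    by_contra hc
    refine hx ?_
    rw [← hA u x, sub_eq_zero]
    exact psi_inj p (mul_left_cancel₀ hc h2)
  rw [Finset.sum_eq_single 0 (fun u _ hu => by rw [h0 u hu, zero_smul])
    (fun h => absurd (Finset.mem_univ _) h), tr'_zero]
  simp [Matrix.smul_apply]

variable {C : Type u} [Group C] (ρ : Representation (ZMod p) C W)

/-- The summands of the intertwining operator. -/
noncomputable def term (h : C) (r : W) : Matrix W W ℂ :=
  psi p (-B (dd ρ h r) r) • tr' B (dd ρ h r)

/-- The intertwining operator. -/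
noncomputable def op (h : C) : Matrix W W ℂ := (fix ρ h : ℂ)⁻¹ • ∑ r, term B ρ h r

/-- Its coefficient on the image of `h - 1`. -/
noncomputable def coef (h : C) (d : W) : ℂ := psi p (-B d (Function.invFun (dd ρ h) d))

variable (hinv : ∀ h x y, B (ρ h x) (ρ h y) = B x y)
include hinv

theorem term_congr (h : C) {r r' : W} (e : dd ρ h r = dd ρ h r') :
    term B ρ h r = term B ρ h r' := by
  have hc := fix_eq_of_dd_eq ρ e
  rw [term, term, ← e]
  congr 2
  have h1 : B (ρ h r - r) (r' - r) = 0 := by
    rw [map_sub B, LinearMap.sub_apply]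
    conv_lhs => enter [1]; rw [← hc, hinv]
    rw [sub_self]
  rw [map_sub (B (ρ h r - r)), sub_eq_zero] at h1
  rw [dd_apply, h1]

theorem op_eq (h : C) :
    op B ρ h = ∑ d ∈ Finset.univ.image (dd ρ h), coef B ρ h d • tr' B d := by
  rw [op, sum_fibres (dd ρ h) _ (fun r r' e => term_congr B ρ hinv h e), dd_ker,
    ← Nat.cast_smul_eq_nsmul ℂ, smul_smul, inv_mul_cancel₀ (Nat.cast_ne_zero.2 (fix_pos ρ h).ne'),
    one_smul]
  refine Finset.sum_congr rfl fun d hd => ?_
  obtain ⟨r, -, hr⟩ := Finset.mem_image.1 hd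
  have h0 : dd ρ h (Function.invFun (dd ρ h) d) = d := Function.invFun_eq ⟨r, hr⟩
  rw [term, h0, coef]

theorem op_mem (h : C) : op B ρ h ∈ sp B := by
  rw [op_eq B ρ hinv]
  exact sum_mem fun d _ => (sp B).smul_mem _ (tr'_mem B d)

theorem op_row (h : C) (x : W) :
    op B ρ h 0 x = if -x ∈ Finset.univ.image (dd ρ h) then coef B ρ h (-x) * psi p (B (-x) x)
      else 0 := by
  simp only [op_eq B ρ hinv, Matrix.sum_apply, Matrix.smul_apply, tr'_apply, smul_eq_mul, mul_ite,
    mul_zero, zero_sub]
  rw [Finset.sum_congr rfl (g := fun d => if -x = d then coef B ρ h d * psi p (B d x) else 0)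
    fun d _ => if_congr neg_eq_iff_eq_neg.symm rfl rfl]
  exact Finset.sum_ite_eq _ _ _

theorem op_intertwine (h : C) (x : W) : tr' B (ρ h x) * op B ρ h = op B ρ h * tr' B x := by
  rw [op, mul_smul_comm, smul_mul_assoc, Finset.mul_sum, Finset.sum_mul]
  congr 1
  conv_rhs => rw [← Equiv.sum_comp (Equiv.addRight x)]
  refine Finset.sum_congr rfl fun r _ => ?_
  rw [Equiv.coe_addRight, term, term, mul_smul_comm, smul_mul_assoc, tr'_mul, tr'_mul, smul_smul,
    smul_smul, ← AddChar.map_add_eq_mul, ← AddChar.map_add_eq_mul]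
  have e : ρ h x + dd ρ h r = dd ρ h (r + x) + x := by
    simp only [dd_apply, map_add]; abel
  rw [e]
  congr 2
  simp only [dd_apply, map_add, map_sub, LinearMap.add_apply, LinearMap.sub_apply, hinv]
  abel

theorem trace_op (h : C) : (op B ρ h).trace = Nat.card W := by
  rw [op_eq B ρ hinv, Matrix.trace_sum, Finset.sum_eq_single 0]
  · have h0 : dd ρ h (Function.invFun (dd ρ h) 0) = 0 := Function.invFun_eq ⟨0, map_zero _⟩
    rw [coef, map_zero B, LinearMap.zero_apply, neg_zero, AddChar.map_zero_eq_one, one_smul,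
      tr'_zero, Matrix.trace_one, Nat.card_eq_fintype_card]
  · intro d _ hd
    rw [Matrix.trace_smul, Matrix.trace, Finset.sum_eq_zero, smul_zero]
    intro w _
    rw [Matrix.diag_apply, tr'_apply, if_neg]
    exact fun e => hd (sub_eq_self.1 e.symm)
  · exact fun h1 => absurd (Finset.mem_image.2 ⟨0, Finset.mem_univ _, map_zero _⟩) h1

theorem op_entry_mem (h : C) (w x : W) : op B ρ h w x ∈ Zp p := by
  simp only [op_eq B ρ hinv, Matrix.sum_apply, Matrix.smul_apply, tr'_apply, smul_eq_mul]
  refine sum_mem fun d _ => mul_mem (psi_mem_Zp p _) ?_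
  split_ifs
  · exact psi_mem_Zp p _
  · exact zero_mem _

theorem op_normSq_row (h : C) :
    (op B ρ h * (op B ρ h)ᴴ) 0 0 = ((Finset.univ.image (dd ρ h)).card : ℂ) := by
  simp only [Matrix.mul_apply, Matrix.conjTranspose_apply, RCLike.star_def, op_row B ρ hinv]
  rw [← Equiv.sum_comp (Equiv.neg W)]
  simp only [Equiv.neg_apply, neg_neg]
  rw [Finset.sum_congr rfl (g := fun d => if d ∈ Finset.univ.image (dd ρ h) then (1 : ℂ) else 0)]
  · simp
  · intro d _
    split_ifs with hd
    · rw [map_mul, coef, mul_mul_mul_comm, psi_norm, psi_norm, one_mul]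
    · rw [zero_mul]

theorem card_image_mul_fix (h : C) :
    (Finset.univ.image (dd ρ h)).card * fix ρ h = Nat.card W := by
  have := sum_fibres (dd ρ h) (fun _ => (1 : ℕ)) (fun _ _ _ => rfl)
  rw [dd_ker] at this
  simp only [Finset.sum_const, Finset.card_univ, smul_eq_mul, mul_one] at this
  rw [Nat.card_eq_fintype_card, this, mul_comm]

end CfsgLib.CharsMore.Gow
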